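import Cfsg.Agent.Lib.Char.EqualDegrees.Structure
import Cfsg.Agent.Lib.Char.RealBlock

/-!
# Radical elements of a union of blocks with a single character degree
-/

set_option autoImplicit false
set_option linter.unusedSectionVars false
set_option linter.style.haveILetI false

namespace Cfsg.Agent.Char.EqualDeg

open Cfsg Matrix IdemAlg DecompLattice

universe u

variable {G : Type u} [Group G] [Fintype G] {M : Ideal AlgInt} {p : ℕ}

/-- The idempotent of a union of blocks in the group algebra over the local ring. -/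
noncomputable def unionElt (hP : M.IsPrime) {S : Set (IrrCharacter G)} (hS : ∀ g, MemLocalRing M (blockCoeff S g)) :
    OA hP G := ofFun hP (blockCoeff S) hS

variable {S : Set (IrrCharacter G)} {hP : M.IsPrime} (hS : ∀ g, MemLocalRing M (blockCoeff S g))

theorem co_unionElt : co (unionElt hP hS) = blockCoeff S := co_ofFun _ _

theorem unionElt_idem : IsIdempotentElem (unionElt hP hS) :=
  ext_co fun g => by rw [co_mul, co_unionElt, conv_blockCoeff]

theorem unionElt_comm (x : OA hP G) : unionElt hP hS * x = x * unionElt hP hS :=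
  ext_co fun g => by
    rw [co_mul, co_mul, co_unionElt, conv_comm (co x) (isClassFunction_blockCoeff S)]

theorem classFun_of_central {z : OA hP G} (hz : ∀ y, z * y = y * z) : IsClassFunction G (co z) := fun a k => by
  have h := congrFun (congrArg co (hz (gen hP k))) (k * a)
  rw [co_mul_gen, co_gen_mul, inv_mul_cancel_left] at h
  exact h

open scoped Classical in
theorem ev_unionElt {n : ℕ} (ρ : Representation ℂ G (Fin n → ℂ)) [ρ.IsIrreducible] (χ : IrrCharacter G)
    (hρ : ρ.character = (χ : G → ℂ)) :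
    ev (hP := hP) (ρ : G →* Module.End ℂ (Fin n → ℂ)) (unionElt hP hS) =
      (if χ ∈ S then (1 : ℂ) else 0) • LinearMap.id := by
  rw [ev_apply, co_unionElt, opSum]
  refine (rep_sum_eq_lam ρ (isClassFunction_blockCoeff S)).trans ?_
  rw [hρ, lam_blockCoeff]

theorem trC_mul_unionElt (χ : IrrCharacter G) (x : OA hP G) [Decidable (χ ∈ S)] :
    trC (χ : G → ℂ) (x * unionElt hP hS) = (if χ ∈ S then 1 else 0) * trC (χ : G → ℂ) x := by
  obtain ⟨n, ρ, hρ, hρc⟩ := id χ.2
  haveI := hρ
  rw [← hρc, trC_eq_trace, trC_eq_trace, map_mul (ev (hP := hP) _), ev_unionElt hS ρ χ hρc,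
    ← Module.End.one_eq_id, mul_smul_comm, mul_one, map_smul, smul_eq_mul]
  by_cases h : χ ∈ S <;> simp [h]

end Cfsg.Agent.Char.EqualDeg

namespace Cfsg.Agent.Char.EqualDeg

open Cfsg Matrix IdemAlg DecompLattice

universe u

variable {G : Type u} [Group G] [Fintype G] {M : Ideal AlgInt} {p : ℕ}

/-- The degrees of the simple components of a union of blocks are divisible by the common degree. -/
theorem dvd_component (hM : IsPModular p M) (D : Data hM G) {S : Set (IrrCharacter G)} {d : ℕ}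
    (hd : ∀ χ ∈ S, deg (χ : G → ℂ) = d) {J : Finset (Fin D.m)}
    (hJ1 : ∀ j ∈ J, ∀ χ, χ ∉ S → dec D j χ = 0) (hJ2 : ∀ j ∉ J, ∀ χ, χ ∈ S → dec D j χ = 0)
    {j : Fin D.m} (hj : j ∈ J) : d ∣ D.d j := by
  classical
  obtain ⟨β, hβ⟩ := exists_brauer_fun D
  have hdeg : ∀ χ : IrrCharacter G, (deg (χ : G → ℂ) : ℂ) = ∑ i, (D.d i : ℂ) * dec D i χ := fun χ => by
    rw [← char_one_eq_deg (irr_isCharacter χ.2), ← trC_gen (hP := pmod_prime hM) (χ : G → ℂ) 1, gen_one,
      trC_idem D IsIdempotentElem.one χ]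
    refine Finset.sum_congr rfl fun i _ => ?_
    rw [map_one, Pi.one_apply, Matrix.rank_one, Fintype.card_fin]
  obtain ⟨a, b, ha, hb, hab⟩ := isGenChar_brauer D hβ j
  obtain ⟨ma, hma⟩ := exists_decomposition ha
  obtain ⟨mb, hmb⟩ := exists_decomposition hb
  set z : IrrCharacter G → ℤ := fun χ => (ma χ : ℤ) - mb χ with hz
  have hx : ∀ x, ¬ p ∣ orderOf x → β x j = ∑ χ, (z χ : ℂ) * (χ : G → ℂ) x := fun x hx => by
    have h := congrFun hab x
    rw [preg_of_isPRegular hM.1 hx, Pi.sub_apply, hma, hmb, Finset.sum_apply, Finset.sum_apply,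
      ← Finset.sum_sub_distrib] at h
    rw [h]
    refine Finset.sum_congr rfl fun χ _ => ?_
    simp [hz, sub_mul]
  have horth : ∀ i, ∑ χ, (z χ : ℂ) * dec D i χ = if i = j then 1 else 0 := by
    intro i
    refine sub_eq_zero.1 (brauer_functions_independent D hβ
      (fun i => (∑ χ, (z χ : ℂ) * dec D i χ) - if i = j then 1 else 0) (fun x hx' => ?_) i)
    simp only [sub_mul, Finset.sum_sub_distrib, ite_mul, one_mul, zero_mul, Finset.sum_ite_eq', Finset.mem_univ,
      if_true]
    rw [hx x hx', sub_eq_zero]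
    simp only [Finset.sum_mul, hβ x hx', Finset.mul_sum]
    rw [Finset.sum_comm]
    exact Finset.sum_congr rfl fun χ _ => Finset.sum_congr rfl fun i _ => by ring
  have key : (D.d j : ℤ) = ∑ χ ∈ Finset.univ.filter (· ∈ S), z χ * d := by
    have : (D.d j : ℂ) = ∑ χ ∈ Finset.univ.filter (· ∈ S), (z χ : ℂ) * d := by
      calc (D.d j : ℂ) = ∑ i ∈ J, (D.d i : ℂ) * if i = j then 1 else 0 := by simp [hj]
        _ = ∑ i ∈ J, (D.d i : ℂ) * ∑ χ ∈ Finset.univ.filter (· ∈ S), (z χ : ℂ) * dec D i χ := by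
            refine Finset.sum_congr rfl fun i hi => ?_
            rw [← horth i, Finset.sum_subset (Finset.subset_univ (Finset.univ.filter (· ∈ S))) fun χ _ hχ => by
              rw [hJ1 i hi χ (fun h => hχ (by simp [h]))]; simp]
        _ = _ := by
            simp only [Finset.mul_sum]
            rw [Finset.sum_comm]
            refine Finset.sum_congr rfl fun χ hχ => ?_
            have hχS : χ ∈ S := (Finset.mem_filter.mp hχ).2
            rw [← hd χ hχS, hdeg,
              ← Finset.sum_subset (Finset.subset_univ J) fun i _ hi => by rw [hJ2 i hi χ hχS]; simp,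
              Finset.mul_sum]
            exact Finset.sum_congr rfl fun i _ => by ring
    exact_mod_cast this
  have h : (d : ℤ) ∣ (D.d j : ℤ) := key ▸ Finset.dvd_sum fun χ _ => Dvd.intro_left _ rfl
  exact_mod_cast h

theorem component_cases {hM : IsPModular p M} (D : Data hM G) {e : OA (pmod_prime hM) G} (hei : IsIdempotentElem e)
    (hec : ∀ x, e * x = x * e) (j : Fin D.m) : D.π e j = 0 ∨ D.π e j = 1 := by
  classical
  refine central_idem_matrix (D.hd j) (congrFun (hei.map D.π).eq j) fun b => ?_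
  obtain ⟨r, hr⟩ := D.good.surj (Pi.single j b)
  have := congrFun (congrArg D.π (hec r)) j
  rwa [map_mul, map_mul, Pi.mul_apply, Pi.mul_apply, hr, Pi.single_eq_same] at this

open scoped Classical in
/-- The corners of a union of blocks with one degree are commutative and unlinked. -/
theorem union_corners (hM : IsPModular p M) (D : Data hM G) {S : Set (IrrCharacter G)}
    (hS : ∀ g, MemLocalRing M (blockCoeff S g)) {d : ℕ} (hd : ∀ χ ∈ S, deg (χ : G → ℂ) = d) :
    let e := unionElt (pmod_prime hM) hS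
    let F := fun j => D.f j * e
    (∀ j, IsIdempotentElem (F j)) ∧ (∀ j, D.π (F j) = if D.π e j = 1 then D.π (D.f j) else 0) ∧
      (∀ i x y, F i * x * F i * (F i * y * F i) = F i * y * F i * (F i * x * F i)) ∧
      ∀ i i', i ≠ i' → ∀ x, F i * x * F i' = 0 := by
  intro e F
  have hei : IsIdempotentElem e := unionElt_idem hS
  have hec : ∀ x, e * x = x * e := unionElt_comm hS
  have hcomp : ∀ j, D.π e j = 0 ∨ D.π e j = 1 := component_cases D hei hec
  have hFi : ∀ j, IsIdempotentElem (F j) := fun j =>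
    IsIdempotentElem.mul_of_commute (hec (D.f j)).symm (D.hf j).1 hei
  set J := Finset.univ.filter fun j => D.π e j = 1 with hJ
  have hFπ : ∀ j, D.π (F j) = if D.π e j = 1 then D.π (D.f j) else 0 := fun j => by
    funext i
    simp only [F, map_mul, Pi.mul_apply, (D.hf j).2]
    by_cases hi : i = j
    · subst hi
      rcases hcomp i with h | h
      · rw [if_neg (fun h1 => by
          have := congrFun (congrFun (h.symm.trans h1) ⟨0, D.hd i⟩) ⟨0, D.hd i⟩
          simp at this), h, mul_zero, Pi.zero_apply]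
      · rw [if_pos h, h, mul_one]
    · rw [Pi.single_eq_of_ne hi, zero_mul]
      split_ifs
      · rw [Pi.single_eq_of_ne hi]
      · rfl
  let τ : IrrCharacter G → (OA (pmod_prime hM) G →+ ℂ) := fun χ =>
    AddMonoidHom.mk' (fun x => trC (χ : G → ℂ) x) (fun x y => trC_add _ x y)
  have hτ : ∀ χ x y, τ χ (x * y) = τ χ (y * x) := fun χ x y => trC_mul_comm (irr_isCharacter χ.2) x y
  have htr : ∀ j (χ : IrrCharacter G), trC (χ : G → ℂ) (F j) = (if χ ∈ S then 1 else 0) * dec D j χ :=
    fun j χ => by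
      show trC (χ : G → ℂ) (D.f j * unionElt _ hS) = _
      rw [trC_mul_unionElt hS, dec_spec]
  have hJ2 : ∀ j ∉ J, ∀ χ, χ ∈ S → dec D j χ = 0 := fun j hj χ hχ => by
    have h1 : D.π e j ≠ 1 := fun h => hj (by simp [hJ, h])
    have e1 : τ χ (F j) = τ χ 0 := IdemClass.eq_of_image_eq D.good (τ χ) (hτ χ) (hFi j) IsIdempotentElem.zero
      (by rw [hFπ, if_neg h1, map_zero])
    rw [map_zero, show τ χ (F j) = trC (χ : G → ℂ) (F j) from rfl, htr, if_pos hχ, one_mul] at e1
    exact_mod_cast e1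
  have hJ1 : ∀ j ∈ J, ∀ χ, χ ∉ S → dec D j χ = 0 := fun j hj χ hχ => by
    have e1 : τ χ (F j) = τ χ (D.f j) := IdemClass.eq_of_image_eq D.good (τ χ) (hτ χ) (hFi j) (D.hf j).1
      (by rw [hFπ, if_pos (Finset.mem_filter.mp hj).2])
    rw [show τ χ (F j) = trC (χ : G → ℂ) (F j) from rfl, htr, if_neg hχ, zero_mul,
      show τ χ (D.f j) = trC (χ : G → ℂ) (D.f j) from rfl, dec_spec] at e1
    exact_mod_cast e1.symm
  have hsum1 : ∀ χ ∈ S, ∑ j, dec D j χ ≤ 1 := by
    intro χ hχ
    have h0 : (deg (χ : G → ℂ) : ℂ) = ∑ j ∈ J, (D.d j : ℂ) * dec D j χ := by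
      have h := trC_idem D hei χ
      rw [← one_mul e] at h
      rw [show e = unionElt (pmod_prime hM) hS from rfl, trC_mul_unionElt hS, if_pos hχ, one_mul, ← gen_one, trC_gen,
        char_one_eq_deg (irr_isCharacter χ.2), gen_one, one_mul] at h
      rw [h, ← Finset.sum_subset (Finset.subset_univ J) fun j _ hj => by rw [hJ2 j hj χ hχ]; simp]
      refine Finset.sum_congr rfl fun j hj => ?_
      rw [(Finset.mem_filter.mp hj).2, Matrix.rank_one, Fintype.card_fin]
    have h1 : d = ∑ j ∈ J, D.d j * dec D j χ := by rw [← hd χ hχ]; exact_mod_cast h0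
    have h2 : d * ∑ j ∈ J, dec D j χ ≤ d := by
      conv_rhs => rw [h1]
      rw [Finset.mul_sum]
      exact Finset.sum_le_sum fun j hj => Nat.mul_le_mul_right _
        (Nat.le_of_dvd (D.hd j) (dvd_component hM D hd hJ1 hJ2 hj))
    rw [← Finset.sum_subset (Finset.subset_univ J) fun j _ hj => hJ2 j hj χ hχ]
    have hdpos : 0 < d := hd χ hχ ▸ deg_pos χ.2
    exact Nat.le_of_mul_le_mul_left (by rwa [mul_one]) hdpos
  -- ranks on every irreducible representation
  have hcorner : ∀ {n : ℕ} (ρ : Representation ℂ G (Fin n → ℂ)) (χ : IrrCharacter G), ρ.character = (χ : G → ℂ) →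
      ∀ i, ∃ r : ℕ, LinearMap.trace ℂ _ (ev (hP := (pmod_prime hM)) (ρ : G →* Module.End ℂ (Fin n → ℂ)) (F i)) = r ∧ r ≤ 1 ∧
        ∀ i', i ≠ i' → r = 1 → LinearMap.trace ℂ _ (ev (hP := (pmod_prime hM)) (ρ : G →* Module.End ℂ (Fin n → ℂ)) (F i')) = 0 := by
    intro n ρ χ hρ i
    simp only [← trC_eq_trace, hρ, htr]
    refine ⟨if χ ∈ S then dec D i χ else 0, by split_ifs <;> simp, ?_, fun i' hne h1 => ?_⟩
    · split_ifs with h
      · exact (Finset.single_le_sum (fun j _ => Nat.zero_le (dec D j χ)) (Finset.mem_univ i)).trans (hsum1 χ h)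
      · exact zero_le_one
    · by_cases h : χ ∈ S
      · rw [if_pos h] at h1
        have h2 := Finset.sum_le_sum_of_subset (f := fun j => dec D j χ) (Finset.subset_univ {i, i'})
        rw [Finset.sum_pair hne, h1] at h2
        have := hsum1 χ h
        rw [if_pos h, show dec D i' χ = 0 by omega, Nat.cast_zero, mul_zero]
      · rw [if_neg h, zero_mul]
  have hfaith : ∀ x : OA (pmod_prime hM) G, (∀ (n : ℕ) (ρ : Representation ℂ G (Fin n → ℂ)) (χ : IrrCharacter G),
      ρ.character = (χ : G → ℂ) → ev (hP := (pmod_prime hM)) (ρ : G →* Module.End ℂ (Fin n → ℂ)) x = 0) → x = 0 := by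
    intro x hx
    refine eq_zero_of_trC fun χ g => ?_
    obtain ⟨n, ρ, -, hρc⟩ := id χ.2
    rw [← hρc, trC_eq_trace, map_mul (ev (hP := (pmod_prime hM)) _), hx n ρ χ hρc, mul_zero, map_zero]
  have hcomm : ∀ i x y, F i * x * F i * (F i * y * F i) = F i * y * F i * (F i * x * F i) := by
    intro i x y
    refine sub_eq_zero.mp (hfaith _ fun n ρ χ hρ => ?_)
    obtain ⟨r, hr, hr1, -⟩ := hcorner ρ χ hρ i
    simp only [map_sub, map_mul]
    rw [corner_comm ((hFi i).map _) hr hr1, sub_self]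
  have hcross : ∀ i i', i ≠ i' → ∀ x, F i * x * F i' = 0 := by
    intro i i' hne x
    refine hfaith _ fun n ρ χ hρ => ?_
    obtain ⟨r, hr, hr1, hr'⟩ := hcorner ρ χ hρ i
    simp only [map_mul]
    rcases Nat.le_one_iff_eq_zero_or_eq_one.mp hr1 with h | h
    · rw [LinearMap.IsIdempotentElem.eq_zero_of_trace_eq_zero ((hFi i).map _) (by rw [hr, h, Nat.cast_zero]),
        zero_mul, zero_mul]
    · rw [LinearMap.IsIdempotentElem.eq_zero_of_trace_eq_zero ((hFi i').map _) (hr' i' hne h), mul_zero]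
  exact ⟨hFi, hFπ, hcomm, hcross⟩

/-- The idempotent of the union lies in the ideal of its corners. -/
theorem sum_corners {hM : IsPModular p M} (D : Data hM G) {e : OA (pmod_prime hM) G} (hei : IsIdempotentElem e)
    (hec : ∀ x, e * x = x * e) (F : Fin D.m → OA (pmod_prime hM) G)
    (hFπ : ∀ j, D.π e j = 1 → D.π (F j) = D.π (D.f j)) :
    ∃ (ι : Type) (_ : Fintype ι) (jj : ι → Fin D.m) (a b : ι → OA (pmod_prime hM) G),
      ∑ q, a q * F (jj q) * b q = e := by
  classical
  have hcomp : ∀ j, D.π e j = 0 ∨ D.π e j = 1 := component_cases D hei hec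
  set J := Finset.univ.filter fun j => D.π e j = 1 with hJ
  let ι := Σ j : J, Fin (D.d j)
  choose A hA using fun q : ι => D.good.surj (Pi.single (q.1 : Fin D.m) (single q.2 ⟨0, D.hd _⟩ 1))
  choose Bq hB using fun q : ι => D.good.surj (Pi.single (q.1 : Fin D.m) (single ⟨0, D.hd _⟩ q.2 1))
  set Y := ∑ q : ι, A q * F q.1 * Bq q with hY
  have hπY : D.π Y = D.π e := by
    have hterm : ∀ q : ι, D.π (A q * F q.1 * Bq q) =
        (Pi.single (q.1 : Fin D.m) (single q.2 q.2 (1 : Res (pmod_prime hM))) :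
          ∀ i, Matrix (Fin (D.d i)) (Fin (D.d i)) (Res (pmod_prime hM))) := fun q => by
      rw [map_mul, map_mul, hA, hB, hFπ _ (Finset.mem_filter.mp q.1.2).2, (D.hf _).2, ← Pi.single_mul,
        ← Pi.single_mul, single_mul_single_same, single_mul_single_same, one_mul, one_mul]
    rw [hY, map_sum, Finset.sum_congr rfl fun q _ => hterm q, Fintype.sum_sigma]
    have hcol : ∀ j : J, ∑ c : Fin (D.d (j : Fin D.m)), (Pi.single (j : Fin D.m) (single c c (1 : Res (pmod_prime hM))) :
        ∀ i, Matrix (Fin (D.d i)) (Fin (D.d i)) (Res (pmod_prime hM))) = Pi.single (j : Fin D.m) 1 := fun j => by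
      rw [← sum_single_one]
      exact (map_sum (AddMonoidHom.single (fun i => Matrix (Fin (D.d i)) (Fin (D.d i)) (Res (pmod_prime hM))) (j : Fin D.m)) _ _).symm
    rw [Finset.sum_congr rfl fun j _ => hcol j]
    funext i
    rw [Finset.sum_apply]
    by_cases hi : D.π e i = 1
    · rw [hi, Finset.sum_eq_single (⟨i, by simp [hJ, hi]⟩ : J)
        (fun j _ hj => Pi.single_eq_of_ne (fun h => hj (Subtype.ext h.symm)) _) (fun h => absurd (Finset.mem_univ _) h),
        Pi.single_eq_same]
    · rw [(hcomp i).resolve_right hi, Finset.sum_eq_zero fun j _ => ?_]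
      refine Pi.single_eq_of_ne (fun h => hi ?_) _
      subst h
      exact (Finset.mem_filter.mp j.2).2
  obtain ⟨u, hu⟩ := D.good.unit (e - e * Y * e) (by
    rw [map_sub, map_mul, map_mul, hπY, (hei.map D.π).eq, (hei.map D.π).eq, sub_self])
  have heu : e * (u : OA (pmod_prime hM) G) = e * Y * e := by
    rw [hu, mul_sub, mul_one, mul_sub, hei.eq, ← mul_assoc, ← mul_assoc, hei.eq]
    abel
  have hsum : ∑ q : ι, (e * A q) * F q.1 * (Bq q * e * ↑u⁻¹) = e := by
    calc ∑ q : ι, (e * A q) * F q.1 * (Bq q * e * ↑u⁻¹) = e * Y * e * ↑u⁻¹ := by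
          rw [hY]
          simp only [Finset.mul_sum, Finset.sum_mul, mul_assoc]
      _ = e := by rw [← heu, Units.mul_inv_cancel_right]
  refine ⟨ι, inferInstance, fun q => (q.1 : Fin D.m), fun q => e * A q, fun q => Bq q * e * ↑u⁻¹, ?_⟩
  beta_reduce
  convert hsum using 2

/-- A central element of the radical has central character zero modulo `M`. -/
theorem lam_memLI_of_pi_eq_zero {hM : IsPModular p M} (D : Data hM G) {z : OA (pmod_prime hM) G}
    (hz : ∀ y, z * y = y * z) (h0 : D.π z = 0) (χ : IrrCharacter G) :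
    MemLocalIdeal M (lam (χ : G → ℂ) (co z)) := by
  classical
  by_contra hunit
  have hcl := classFun_of_central hz
  have hlr := memLR_lam (pmod_prime hM) χ.2 hcl (fun g => memLR_co z g)
  set c0 : locRing (pmod_prime hM) := ⟨_, memLR_inv (pmod_prime hM) hlr hunit⟩
  obtain ⟨w, hw⟩ := D.good.unit (c0 • z) (by rw [D.smul, h0, smul_zero])
  obtain ⟨n, ρ, hρ, hρc⟩ := id χ.2
  haveI := hρ
  have hlam0 : lam (χ : G → ℂ) (co z) ≠ 0 := fun h => hunit (by rw [h]; exact memLI_zero (pmod_prime hM))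
  have h1 : ev (hP := (pmod_prime hM)) (ρ : G →* Module.End ℂ (Fin n → ℂ)) (w : OA (pmod_prime hM) G) = 0 := by
    rw [hw, map_sub, map_one, ev_smul, ev_apply, opSum, (rep_sum_eq_lam ρ hcl : _), hρc, smul_smul]
    show (1 : Module.End ℂ (Fin n → ℂ)) - ((lam (χ : G → ℂ) (co z))⁻¹ * lam (χ : G → ℂ) (co z)) • _ = 0
    rw [inv_mul_cancel₀ hlam0, one_smul, Module.End.one_eq_id, sub_self]
  have h2 := congrArg (fun y : OA (pmod_prime hM) G => ev (hP := (pmod_prime hM)) (ρ : G →* Module.End ℂ (Fin n → ℂ)) y) w.mul_inv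
  simp only [map_mul, map_one, h1, zero_mul] at h2
  have h3 : trC ρ.character (1 : OA (pmod_prime hM) G) = 0 := by
    rw [trC_eq_trace, map_one, ← h2, map_zero]
  rw [← gen_one, trC_gen, hρc, char_one_eq_deg (irr_isCharacter χ.2)] at h3
  exact (deg_pos χ.2).ne' (by exact_mod_cast h3)

set_option maxHeartbeats 800000 in
/-- A radical element of a union of blocks with one degree is generated by central radical elements. -/
theorem exists_decomp (hM : IsPModular p M) {S : Set (IrrCharacter G)} (hS : ∀ g, MemLocalRing M (blockCoeff S g))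
    {d : ℕ} (hd : ∀ χ ∈ S, deg (χ : G → ℂ) = d) {V : Subgroup G} [V.Normal] (hV : IsPGroup p V)
    (hab : ∀ a ∈ V, ∀ b ∈ V, a * b = b * a) {v : G} (hv : v ∈ V) :
    ∃ (ι : Type) (_ : Fintype ι) (z c : ι → OA (pmod_prime hM) G),
      (gen _ v - 1) * unionElt (pmod_prime hM) hS = ∑ i, z i * c i ∧
      ∀ i, (∀ y, z i * y = y * z i) ∧ unionElt (pmod_prime hM) hS * z i = z i ∧
        ∀ χ : IrrCharacter G, MemLocalIdeal M (lam (χ : G → ℂ) (co (z i))) := by
  classical
  obtain ⟨D⟩ := exists_data (G := G) hM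
  set e := unionElt (pmod_prime hM) hS with he
  have hei : IsIdempotentElem e := unionElt_idem hS
  have hec : ∀ x, e * x = x * e := unionElt_comm hS
  obtain ⟨hFi, -, hcomm, hcross⟩ := union_corners hM D hS hd
  obtain ⟨ι, _, jj, a, b, hsum⟩ := sum_corners D hei hec (fun j => D.f j * e) fun j hj => by
    rw [map_mul, (D.hf j).2]
    funext i
    by_cases hi : i = j
    · subst hi; rw [Pi.mul_apply, hj, mul_one]
    · rw [Pi.mul_apply, Pi.single_eq_of_ne hi, zero_mul]
  have hvπ : D.π (gen (pmod_prime hM) v - 1) = 0 := by rw [map_sub, pi_gen_eq_one D hV hab hv, map_one, sub_self]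
  obtain ⟨z, c, hzc, hz⟩ := exists_central_decomp jj (fun j => D.f j * e) a
    b hec hei.eq (fun i => (hFi i).eq) hsum hcomm hcross (fun x => D.π x = 0)
    (map_zero _) (fun x y hx hy => by rw [map_add, hx, hy, add_zero])
    (fun x y hx => ⟨by rw [map_mul, hx, mul_zero], by rw [map_mul, hx, zero_mul]⟩)
    (x := (gen (pmod_prime hM) v - 1) * e) (by rw [map_mul, hvπ, zero_mul])
    (by rw [hec, mul_assoc, hei.eq])
  exact ⟨ι × ι, inferInstance, z, c, hzc, fun q => ⟨(hz q).1, (hz q).2.2, lam_memLI_of_pi_eq_zero D (hz q).1 (hz q).2.1⟩⟩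

end Cfsg.Agent.Char.EqualDeg
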