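import Cfsg.Agent.Lib.Char.EqualDegrees.Deriv
import Cfsg.Agent.Lib.Char.EqualDegrees.Union
import Cfsg.Agent.Lib.Char.QuotientBlocks
import Cfsg.Agent.Lib.Char.IdemSubgroup

/-!
# A single degree over an abelian normal `p`-subgroup forces trivial action

Central radical elements of a union of blocks are killed by the derivations of functions `ν - ν ∘ t`, while the
radical element `v - 1` is not.
-/

set_option autoImplicit false
set_option linter.unusedSectionVars false
set_option linter.style.haveILetI false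

namespace Cfsg.Agent.Char.EqualDeg

open Cfsg IdemAlg MonoidAlgebra
open IdemSub (push push_gen trC_push)
open scoped ComplexConjugate

universe u

variable {G : Type u} [Group G] [Fintype G] {M : Ideal AlgInt} {p : ℕ}

/-- Reduction of the group algebra modulo `M`. -/
noncomputable abbrev rd (hP : M.IsPrime) (H : Type u) [Group H] : OA hP H →+* MonoidAlgebra (Res hP) H :=
  MonoidAlgebra.mapRingHom H (redHom hP)

theorem coeff_rd (hP : M.IsPrime) (x : OA hP G) (g : G) : (rd hP G x).coeff g = red hP (co x g) := by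
  rw [co, ← redHom_apply]
  simp [rd]

theorem rd_gen (hP : M.IsPrime) (g : G) : rd hP G (gen hP g) = single g 1 := by
  simp [rd, gen]

theorem rd_eq_zero (hP : M.IsPrime) (x : OA hP G) (h : ∀ g, MemLocalIdeal M (co x g)) : rd hP G x = 0 :=
  MonoidAlgebra.coeff_injective (Finsupp.ext fun g => by
    rw [coeff_rd, (red_eq_zero_iff hP (memLR_co x g)).mpr (h g)]
    simp)

theorem exists_rd_preimage (hP : M.IsPrime) (y : MonoidAlgebra (Res hP) G) : ∃ x, rd hP G x = y := by
  choose s hs using fun g => Ideal.Quotient.mk_surjective (I := resIdeal hP) (y.coeff g)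
  refine ⟨ofFun hP (fun g => ((s g : locRing hP) : ℂ)) (fun g => (s g).2),
    MonoidAlgebra.coeff_injective (Finsupp.ext fun g => ?_)⟩
  rw [coeff_rd, show co (ofFun hP (fun g => ((s g : locRing hP) : ℂ)) fun g => (s g).2) g =
    ((s g : locRing hP) : ℂ) from congrFun (co_ofFun _ _) g, ← redHom_apply]
  exact hs g

theorem idem_ne_zero_mod (hP : M.IsPrime) {e : OA hP G} (he : IsIdempotentElem e) (h0 : e ≠ 0) :
    rd hP G e ≠ 0 := by
  intro h
  obtain ⟨f, hf⟩ := exists_inv_one_sub e fun g => by
    refine (red_eq_zero_iff hP (memLR_co e g)).mp ?_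
    rw [← coeff_rd, h]
    simp
  refine h0 ?_
  calc e = Polynomial.aeval e f * (1 - e) * e := by rw [hf, one_mul]
    _ = 0 := by rw [mul_assoc, sub_mul, one_mul, he.eq, sub_self, mul_zero]

theorem conv_blockCoeff_disjoint {S S' : Set (IrrCharacter G)} (h : ∀ χ, χ ∈ S → χ ∉ S') :
    conv (blockCoeff S) (blockCoeff S') = 0 := by
  classical
  have h1 := isClassFunction_blockCoeff S
  have h2 := isClassFunction_blockCoeff S'
  rw [classFun_eq_sum_idem (isClassFunction_conv h1 h2)]
  refine Finset.sum_eq_zero fun χ _ => ?_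
  rw [lam_conv χ.2 h1 h2, lam_blockCoeff, lam_blockCoeff]
  by_cases hχ : χ ∈ S
  · rw [if_neg (h χ hχ), mul_zero, zero_smul]
  · rw [if_neg hχ, zero_mul, zero_smul]

theorem conv_singleton (θ : IrrCharacter G) {f : G → ℂ} (hf : IsClassFunction G f) :
    conv (blockCoeff ({θ} : Set (IrrCharacter G))) f =
      lam (θ : G → ℂ) f • blockCoeff ({θ} : Set (IrrCharacter G)) := by
  classical
  have h1 := isClassFunction_blockCoeff ({θ} : Set (IrrCharacter G))
  rw [classFun_eq_sum_idem (isClassFunction_conv h1 hf)]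
  conv_rhs => rw [classFun_eq_sum_idem h1]
  rw [Finset.smul_sum]
  refine Finset.sum_congr rfl fun χ _ => ?_
  rw [lam_conv χ.2 h1 hf, lam_blockCoeff, smul_smul]
  by_cases hχ : χ ∈ ({θ} : Set (IrrCharacter G))
  · rw [if_pos hχ, Set.mem_singleton_iff.mp hχ, one_mul, mul_one]
  · rw [if_neg hχ, zero_mul, mul_zero]

/-- The idempotent of a character with full `p`-part of the degree is integral. -/
theorem memLR_idem_full (hM : IsPModular p M) {χ : G → ℂ} (hχ : IsIrrCharacter G χ)
    (h : (deg χ).factorization p = (Nat.card G).factorization p) (g : G) : MemLocalRing M (idem χ g) := by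
  have hp := hM.1
  have hd0 := (deg_pos hχ).ne'
  have hG0 : Nat.card G ≠ 0 := Nat.card_pos.ne'
  have e1 := Nat.ordProj_mul_ordCompl_eq_self (deg χ) p
  have e2 := Nat.ordProj_mul_ordCompl_eq_self (Nat.card G) p
  have hn : ¬ p ∣ Nat.card G / p ^ (Nat.card G).factorization p := Nat.not_dvd_ordCompl hp hG0
  have hpow : ((p : ℂ) ^ (Nat.card G).factorization p) ≠ 0 := pow_ne_zero _ (Nat.cast_ne_zero.mpr hp.ne_zero)
  have key : idem χ g = ((deg χ / p ^ (deg χ).factorization p : ℕ) : ℂ) *
      ((Nat.card G / p ^ (Nat.card G).factorization p : ℕ) : ℂ)⁻¹ * conj (χ g) := by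
    simp only [idem]
    rw [char_one_eq_deg (irr_isCharacter hχ)]
    rw [h] at e1
    rw [h]
    generalize (Nat.card G).factorization p = a at *
    generalize hA : deg χ / p ^ a = A at e1 ⊢
    generalize hB : Nat.card G / p ^ a = B at e2 hn ⊢
    have hB0 : (B : ℂ) ≠ 0 := Nat.cast_ne_zero.mpr fun h0 => hn (h0 ▸ dvd_zero p)
    rw [← e1]
    conv_lhs => rw [← e2]
    push_cast
    field_simp
    try ring
  rw [key]
  exact memLR_mul (pmod_prime hM) (memLR_mul (pmod_prime hM) (memLR_natCast (pmod_prime hM) _)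
    (memLR_inv_natCast hM hn)) (conj_char_memLR (pmod_prime hM) (irr_isCharacter hχ) g)

variable (V : Subgroup G) [V.Normal] [Fintype (G ⧸ V)]

theorem rd_push (hP : M.IsPrime) (x : OA hP G) :
    rd hP (G ⧸ V) (push (QuotientGroup.mk' V) x) = proj V (rd hP G x) := by
  induction x using MonoidAlgebra.induction_linear with
  | zero => rw [map_zero, map_zero, map_zero, map_zero]
  | add y z hy hz => simp only [map_add, hy, hz]
  | single g r =>
    rw [show (MonoidAlgebra.single g r : OA hP G) = r • gen hP g by simp [gen], map_smul, push_gen]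
    simp [rd, gen]

theorem push_surjective (hP : M.IsPrime) (y : OA hP (G ⧸ V)) : ∃ x, push (QuotientGroup.mk' V) x = y := by
  induction y using MonoidAlgebra.induction_linear with
  | zero => exact ⟨0, map_zero _⟩
  | add y z hy hz =>
    obtain ⟨a, rfl⟩ := hy
    obtain ⟨b, rfl⟩ := hz
    exact ⟨a + b, map_add _ _ _⟩
  | single X r =>
    obtain ⟨g, rfl⟩ := QuotientGroup.mk_surjective X
    exact ⟨r • gen hP g, by rw [map_smul, push_gen]; simp [gen]⟩

theorem classFun_push (hP : M.IsPrime) {x : OA hP G} (hx : ∀ y, x * y = y * x) :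
    IsClassFunction (G ⧸ V) (co (push (QuotientGroup.mk' V) x)) := by
  refine classFun_of_central fun y => ?_
  obtain ⟨y, rfl⟩ := push_surjective V hP y
  rw [← map_mul, hx, map_mul]

theorem lam_co_push (hP : M.IsPrime) (χ : IrrCharacter (G ⧸ V)) (x : OA hP G) :
    lam (χ : G ⧸ V → ℂ) (co (push (QuotientGroup.mk' V) x)) = lam (inflChar V χ : G → ℂ) (co x) := by
  simp only [lam]
  congr 1
  exact trC_push (QuotientGroup.mk' V) (χ : G ⧸ V → ℂ) x

theorem der_congr {k : Type*} [CommRing k] {μ ν : G → k} (h : ∀ a ∈ V, μ a = ν a) (x : MonoidAlgebra k G) :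
    der V μ x = der V ν x := by
  rw [der_apply, der_apply]
  refine Finset.sum_congr rfl fun g _ => ?_
  rw [wt, wt, h _ (mul_out_inv_mem V g)]

/-- The central radical elements project to zero. -/
theorem proj_central_eq_zero (hM : IsPModular p M) {S : Set (IrrCharacter G)}
    (hS : ∀ g, MemLocalRing M (blockCoeff S g)) {d : ℕ} (hd : ∀ χ ∈ S, deg (χ : G → ℂ) = d)
    (hdp : d.factorization p = (Nat.card (G ⧸ V)).factorization p) {z : OA (pmod_prime hM) G}
    (hz : ∀ y, z * y = y * z) (hez : unionElt (pmod_prime hM) hS * z = z)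
    (hlam : ∀ χ : IrrCharacter G, MemLocalIdeal M (lam (χ : G → ℂ) (co z))) :
    proj V (rd (pmod_prime hM) G z) = 0 := by
  classical
  have hP := pmod_prime hM
  rw [← rd_push]
  refine rd_eq_zero _ _ fun X => ?_
  rw [congrFun (classFun_eq_sum_idem (classFun_push V _ hz)) X, Finset.sum_apply]
  refine memLI_sum hP _ _ fun χ _ => ?_
  rw [Pi.smul_apply, smul_eq_mul, lam_co_push]
  by_cases hχ : inflChar V χ ∈ S
  · refine memLI_mul_right hP (hlam _) (memLR_idem_full hM χ.2 ?_ X)
    have h1 : deg (inflChar V χ : G → ℂ) = deg (χ : G ⧸ V → ℂ) := by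
      refine Nat.cast_injective (R := ℂ) ?_
      rw [← char_one_eq_deg (irr_isCharacter (inflChar V χ).2), ← char_one_eq_deg (irr_isCharacter χ.2)]
      rfl
    rw [← h1, hd _ hχ, hdp]
  · have h0 : trC (inflChar V χ : G → ℂ) z = 0 := by
      rw [← hez, unionElt_comm hS, trC_mul_unionElt hS, if_neg hχ, zero_mul]
    rw [show lam (inflChar V χ : G → ℂ) (co z) = 0 by
      show trC (inflChar V χ : G → ℂ) z / _ = 0
      rw [h0, zero_div], zero_mul]
    exact memLI_zero hP

variable (C1 : Subgroup (G ⧸ V)) [C1.Normal] [Fintype C1]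

/-- The idempotent of a character of a normal subgroup of the quotient. -/
noncomputable def thetaFun (θ : IrrCharacter C1) : G ⧸ V → ℂ :=
  extendByZero C1 (blockCoeff ({θ} : Set (IrrCharacter C1)))

theorem blockCoeff_singleton (θ : IrrCharacter C1) :
    blockCoeff ({θ} : Set (IrrCharacter C1)) = idem (θ : C1 → ℂ) := by
  classical
  funext x
  rw [blockCoeff, finsum_mem_singleton]
  rfl

theorem memLR_thetaFun (hM : IsPModular p M) {θ : IrrCharacter C1}
    (hθ : (deg (θ : C1 → ℂ)).factorization p = (Nat.card C1).factorization p) (X : G ⧸ V) :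
    MemLocalRing M (thetaFun V C1 θ X) := by
  by_cases hX : X ∈ C1
  · rw [thetaFun, extendByZero_mem _ _ hX, blockCoeff_singleton]
    exact memLR_idem_full hM θ.2 hθ _
  · rw [thetaFun, extendByZero_not_mem _ _ hX]
    exact memLR_zero (pmod_prime hM)

theorem irrComp_conj_self (θ : IrrCharacter C1) {X : G ⧸ V} (hX : X ∈ C1) :
    irrComp (MulAut.conjNormal X) θ = θ := Subtype.ext (funext fun n => by
  rw [irrComp_apply, show (MulAut.conjNormal X) n = (⟨X, hX⟩ : C1) * n * (⟨X, hX⟩ : C1)⁻¹ from
    Subtype.ext (by simp [MulAut.conjNormal_apply])]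
  exact isClassFunction_character (irr_isCharacter θ.2) n ⟨X, hX⟩)

theorem thetaFun_conj (θ : IrrCharacter C1) (X y : G ⧸ V) :
    thetaFun V C1 θ (X * y * X⁻¹) = thetaFun V C1 (irrComp (MulAut.conjNormal X) θ) y := by
  by_cases hy : y ∈ C1
  · rw [thetaFun, thetaFun, extendByZero_mem _ _ hy,
      extendByZero_mem _ _ (Subgroup.Normal.conj_mem inferInstance y hy X)]
    have h : irrTransport (MulAut.conjNormal X : C1 ≃* C1) '' {θ} = {irrComp (MulAut.conjNormal X) θ} := by
      rw [Set.image_singleton]; rfl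
    rw [← h, blockCoeff_transport]
    exact congrArg _ (Subtype.ext (by simp [MulAut.conjNormal_apply]))
  · rw [thetaFun, thetaFun, extendByZero_not_mem _ _ hy, extendByZero_not_mem]
    exact fun h => hy (by simpa [mul_assoc] using Subgroup.Normal.conj_mem (inferInstance : C1.Normal) _ h X⁻¹)

set_option maxHeartbeats 800000 in
/-- The main contradiction. -/
theorem false_of_single_degree (hM : IsPModular p M) (hV : IsPGroup p V)
    (hab : ∀ a ∈ V, ∀ b ∈ V, a * b = b * a) (C : Subgroup G) [C.Normal]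
    (hCV : ∀ c ∈ C, ∀ a ∈ V, c * a * c⁻¹ = a) (hC1 : C1 = C.map (QuotientGroup.mk' V))
    {S : Set (IrrCharacter G)} (hS : ∀ g, MemLocalRing M (blockCoeff S g)) {d : ℕ}
    (hd : ∀ χ ∈ S, deg (χ : G → ℂ) = d) (hdp : d.factorization p = (Nat.card (G ⧸ V)).factorization p)
    (θ : IrrCharacter C1) (hθ : (deg (θ : C1 → ℂ)).factorization p = (Nat.card C1).factorization p)
    (χ0 : IrrCharacter (G ⧸ V)) (hχ0 : inflChar V χ0 ∈ S)
    (hcon : classInner (fun n : C1 => (χ0 : G ⧸ V → ℂ) n) (θ : C1 → ℂ) ≠ 0)
    (hstab : ∀ g : G, irrComp (MulAut.conjNormal (g : G ⧸ V)) θ = θ → g ∉ C →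
      (∃ a ∈ V, g * a * g⁻¹ ≠ a) ∧ ∃ m, ¬ p ∣ m ∧ g ^ m ∈ C)
    (t : G) (ht : irrComp (MulAut.conjNormal (t : G ⧸ V)) θ = θ) (φ : G → ZMod p) (hφ : AddOn V φ)
    {v : G} (hv : v ∈ V) (hφv : φ (t * v * t⁻¹) ≠ φ v) : False := by
  classical
  haveI := Fact.mk hM.1
  have hP := pmod_prime hM
  haveI := charP_res (pmod_prime hM) hM
  haveI := Fintype.ofFinite V
  set k := Res (pmod_prime hM)
  set cast : ZMod p →+* k := ZMod.castHom dvd_rfl k with hcast
  -- the idempotent
  set I0 : OA (pmod_prime hM) (G ⧸ V) := ofFun _ (thetaFun V C1 θ) (memLR_thetaFun V C1 hM hθ) with hI0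
  set I := rd (pmod_prime hM) (G ⧸ V) I0 with hI
  have hcoI : co I0 = thetaFun V C1 θ := co_ofFun _ _
  have hI0i : I0 * I0 = I0 := ext_co fun X => by
    rw [co_mul, hcoI, thetaFun, extendByZero_conv, conv_blockCoeff]
  have hII : I * I = I := by rw [hI, ← map_mul, hI0i]
  have hconj : ∀ X : G ⧸ V, co (gen (pmod_prime hM) X * I0 * gen (pmod_prime hM) X⁻¹) =
      thetaFun V C1 (irrComp (MulAut.conjNormal X⁻¹) θ) := fun X => funext fun y => by
    rw [co_mul_gen, inv_inv, co_gen_mul, hcoI, ← thetaFun_conj, inv_inv, mul_assoc]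
  have hfixI : ∀ X : G ⧸ V, irrComp (MulAut.conjNormal X) θ = θ →
      single X (1 : k) * I = I * single X 1 := by
    intro X hX
    have hX' : irrComp (MulAut.conjNormal X⁻¹) θ = θ := by
      conv_lhs => rw [← hX]
      rw [irrComp_conj_mul, mul_inv_cancel, irrComp_conj_one]
    have h1 : gen (pmod_prime hM) X * I0 * gen (pmod_prime hM) X⁻¹ = I0 :=
      ext_co fun y => by rw [hconj, hX', hcoI]
    have h2 : gen (pmod_prime hM) X * I0 = I0 * gen (pmod_prime hM) X := by
      conv_rhs => rw [← h1]
      rw [mul_assoc _ _ (gen (pmod_prime hM) X), ← gen_mul, inv_mul_cancel, gen_one, mul_one]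
    have := congrArg (rd (pmod_prime hM) (G ⧸ V)) h2
    rwa [map_mul, map_mul, rd_gen, ← hI] at this
  have hmovI : ∀ X : G ⧸ V, irrComp (MulAut.conjNormal X) θ ≠ θ → I * single X (1 : k) * I = 0 := by
    intro X hX
    have hX' : irrComp (MulAut.conjNormal X⁻¹) θ ≠ θ := fun h => hX (by
      conv_lhs => rw [← h]
      rw [irrComp_conj_mul, inv_mul_cancel, irrComp_conj_one])
    have h1 : I0 * (gen (pmod_prime hM) X * I0 * gen (pmod_prime hM) X⁻¹) = 0 := ext_co fun y => by
      rw [co_mul, hcoI, hconj, thetaFun, thetaFun, extendByZero_conv,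
        conv_blockCoeff_disjoint (fun χ h h' => hX' ((Set.mem_singleton_iff.mp h').symm.trans
          (Set.mem_singleton_iff.mp h))), co_zero, Pi.zero_apply]
      by_cases hy : y ∈ C1
      · rw [extendByZero_mem _ _ hy]; rfl
      · rw [extendByZero_not_mem _ _ hy]
    have h2 : I0 * gen (pmod_prime hM) X * I0 = 0 := by
      have := congrArg (· * gen (pmod_prime hM) X) h1
      simp only [zero_mul, mul_assoc, ← gen_mul, inv_mul_cancel, gen_one, mul_one] at this
      rw [mul_assoc]; exact this
    have := congrArg (rd (pmod_prime hM) (G ⧸ V)) h2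
    rwa [map_mul, map_mul, map_zero, rd_gen, ← hI] at this
  -- weights
  have hcastAdd : ∀ ψ : G → ZMod p, AddOn V ψ → AddOn V (fun a => cast (ψ a)) := fun ψ hψ a ha b hb => by
    show cast (ψ (a * b)) = _
    rw [hψ a ha b hb, map_add]
  -- the derivation of a central radical element is scalar on the idempotent
  have hscalar : ∀ (ψ : G → ZMod p), AddOn V ψ → ∀ z : OA (pmod_prime hM) G, (∀ y, z * y = y * z) →
      proj V (rd (pmod_prime hM) G z) = 0 →
      ∃ c : k, I * der V (fun a => cast (ψ a)) (rd (pmod_prime hM) G z) = c • I := by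
    intro ψ hψ z hz hz0
    set μ : G → k := fun a => cast (ψ a) with hμ
    have hμA := hcastAdd ψ hψ
    set w := der V μ (rd (pmod_prime hM) G z) with hw
    have hzc : ∀ h a, (rd (pmod_prime hM) G z).coeff (h * a * h⁻¹) = (rd (pmod_prime hM) G z).coeff a :=
      fun h a => by rw [coeff_rd, coeff_rd, classFun_of_central hz a h]
    have hcomm : ∀ X ∈ C1, single X (1 : k) * w = w * single X 1 := by
      intro X hX
      rw [hC1, Subgroup.mem_map] at hX
      obtain ⟨c, hc, rfl⟩ := hX
      have h1 := der_conj V hμA hz0 c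
      have h2 : single c (1 : k) * rd (pmod_prime hM) G z * single c⁻¹ 1 = rd (pmod_prime hM) G z := by
        rw [← rd_gen, ← rd_gen, ← map_mul, ← map_mul, ← hz, mul_assoc, ← gen_mul, mul_inv_cancel, gen_one,
          mul_one]
      rw [h2, der_congr V (μ := fun a => μ (c * a * c⁻¹)) (ν := μ) (fun a ha => by rw [hCV c hc a ha]),
        ← hw] at h1
      conv_rhs => rw [h1]
      rw [mul_assoc, single_mul_single, one_mul, QuotientGroup.mk'_apply, inv_mul_cancel,
        show (single (1 : G ⧸ V) (1 : k)) = 1 from rfl, mul_one]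
    have hwX : ∀ X, irrComp (MulAut.conjNormal X) θ = θ → X ∉ C1 → w.coeff X = 0 := by
      intro X hXθ hXC
      rw [hw, coeff_der]
      set g := X.out with hg
      have hgX : (g : G ⧸ V) = X := QuotientGroup.out_eq' X
      have hgC : g ∉ C := fun h => hXC (by rw [hC1]; exact ⟨g, h, hgX⟩)
      obtain ⟨⟨a0, ha0, hne⟩, m, hm, hmC⟩ := hstab g (by rw [hgX]; exact hXθ) hgC
      have hVn : ∀ (h : G), ∀ a ∈ V, h * a * h⁻¹ ∈ V := fun h a ha => Subgroup.Normal.conj_mem inferInstance a ha h
      let f : V →* V :=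
        { toFun := fun a => ⟨g * a * g⁻¹ * (a : G)⁻¹, mul_mem (hVn g a a.2) (inv_mem a.2)⟩
          map_one' := Subtype.ext (by simp)
          map_mul' := fun a b => Subtype.ext (by
            show g * ((a : G) * b) * g⁻¹ * ((a : G) * b)⁻¹ = g * a * g⁻¹ * (a : G)⁻¹ * (g * b * g⁻¹ * (b : G)⁻¹)
            rw [hab _ (mul_mem (hVn g a a.2) (inv_mem a.2)) _ (mul_mem (hVn g b b.2) (inv_mem b.2)),
              mul_inv_rev, hab _ (inv_mem b.2) _ (inv_mem a.2)]
            have := hab _ (hVn g b b.2) _ (inv_mem a.2)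
            calc g * ((a : G) * b) * g⁻¹ * ((a : G)⁻¹ * (b : G)⁻¹)
                = (g * a * g⁻¹) * ((g * b * g⁻¹) * (a : G)⁻¹) * (b : G)⁻¹ := by group
              _ = (g * a * g⁻¹) * ((a : G)⁻¹ * (g * b * g⁻¹)) * (b : G)⁻¹ := by rw [this]
              _ = (g * a * g⁻¹ * (a : G)⁻¹) * (g * b * g⁻¹ * (b : G)⁻¹) := by group
              _ = _ := by rw [hab _ (mul_mem (hVn g a a.2) (inv_mem a.2)) _ (mul_mem (hVn g b b.2) (inv_mem b.2))]) }
      haveI := Fintype.ofFinite f.range
      have hWne : f ⟨a0, ha0⟩ ≠ 1 := fun h => hne (mul_inv_eq_one.mp (congrArg Subtype.val h))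
      have hWp : IsPGroup p f.range := hV.to_subgroup f.range
      have hdvd : p ∣ Nat.card f.range := by
        obtain ⟨n, hn⟩ := IsPGroup.iff_card.mp hWp
        rw [hn]
        refine dvd_pow_self p fun h0 => hWne ?_
        rw [h0, pow_zero] at hn
        exact Subgroup.mem_bot.mp (Subgroup.eq_bot_of_card_eq _ hn ▸ MonoidHom.mem_range.mpr ⟨_, rfl⟩)
      have hne2 : Nat.card f.range ≠ 2 := by
        intro h2
        have hp2 : p = 2 := (Nat.prime_dvd_prime_iff_eq hM.1 Nat.prime_two).mp (h2 ▸ hdvd)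
        set w0 := f ⟨a0, ha0⟩ with hw0
        have huniq : ∀ u : V, f u = 1 ∨ f u = w0 := by
          intro u
          by_contra hu
          push Not at hu
          have hcard : 2 < ({1, ⟨f u, u, rfl⟩, ⟨w0, _, rfl⟩} : Finset f.range).card := by
            rw [Finset.card_insert_of_notMem, Finset.card_insert_of_notMem, Finset.card_singleton]
            · omega
            · rw [Finset.mem_singleton]
              exact fun h => hu.2 (congrArg Subtype.val h)
            · simp only [Finset.mem_insert, Finset.mem_singleton, not_or]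
              exact ⟨fun h => hu.1 (congrArg Subtype.val h).symm, fun h => hWne (congrArg Subtype.val h).symm⟩
          have := Finset.card_le_univ ({1, ⟨f u, u, rfl⟩, ⟨w0, _, rfl⟩} : Finset f.range)
          rw [← Nat.card_eq_fintype_card, h2] at this
          omega
        have hw0sq : (w0 : G) * w0 = 1 := by
          rcases huniq (⟨a0, ha0⟩ * ⟨a0, ha0⟩) with h | h
          · rw [map_mul, ← hw0] at h
            exact congrArg Subtype.val h
          · rw [map_mul, ← hw0, mul_eq_left] at h
            exact absurd h hWne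
        have hfix : g * (w0 : G) * g⁻¹ = w0 := by
          have e : g * (w0 : G) * g⁻¹ = ((f ⟨g * a0 * g⁻¹, hVn g a0 ha0⟩ : V) : G) := by
            show g * (g * a0 * g⁻¹ * a0⁻¹) * g⁻¹ = g * (g * a0 * g⁻¹) * g⁻¹ * (g * a0 * g⁻¹)⁻¹
            group
          rcases huniq ⟨g * a0 * g⁻¹, hVn g a0 ha0⟩ with h | h
          · rw [h] at e
            have : (w0 : G) = 1 := by
              have := congrArg (fun y => g⁻¹ * y * g) e
              simpa [mul_assoc] using this
            exact absurd (Subtype.ext this) hWne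
          · rw [e, h]
        have hpw : ∀ n : ℕ, g ^ n * a0 * (g ^ n)⁻¹ = (w0 : G) ^ n * a0 := by
          intro n
          induction n with
          | zero => simp
          | succ n ih =>
            have hga : g * a0 * g⁻¹ = (w0 : G) * a0 := by
              show g * a0 * g⁻¹ = g * a0 * g⁻¹ * a0⁻¹ * a0
              group
            calc g ^ (n + 1) * a0 * (g ^ (n + 1))⁻¹ = g * (g ^ n * a0 * (g ^ n)⁻¹) * g⁻¹ := by
                  rw [pow_succ']; group
              _ = (g * (w0 : G) * g⁻¹) ^ n * (g * a0 * g⁻¹) := by rw [ih, conj_pow]; group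
              _ = _ := by rw [hfix, hga, ← mul_assoc, ← pow_succ]
        have h1 := hpw m
        rw [hCV _ hmC a0 ha0, eq_comm, mul_eq_right] at h1
        have hodd : ∃ j, m = 2 * j + 1 := ⟨m / 2, by
          subst hp2
          omega⟩
        obtain ⟨j, rfl⟩ := hodd
        rw [pow_succ, pow_mul, pow_two, hw0sq, one_pow, one_mul] at h1
        exact hWne (Subtype.ext h1)
      refine sum_mul_eq_zero f.range (fun a : V => (rd (pmod_prime hM) G z).coeff ((a : G) * g))
        (fun a : V => μ a) (fun a w' hw' => ?_) (fun a w' _ => hμA a a.2 _ w'.2)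
        ((CharP.cast_eq_zero_iff k p _).mpr hdvd) ?_
      · obtain ⟨u, rfl⟩ := hw'
        show (rd (pmod_prime hM) G z).coeff ((a : G) * (g * u * g⁻¹ * (u : G)⁻¹) * g) = _
        rw [← hzc ((u : G)⁻¹) ((a : G) * g)]
        congr 1
        have e1 := hab _ (inv_mem u.2) _ a.2
        have e2 := hab _ (hVn g u u.2) _ (inv_mem u.2)
        calc (a : G) * (g * u * g⁻¹ * (u : G)⁻¹) * g = (a : G) * ((g * u * g⁻¹) * (u : G)⁻¹) * g := by group
          _ = (a : G) * ((u : G)⁻¹ * (g * u * g⁻¹)) * g := by rw [e2]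
          _ = ((a : G) * (u : G)⁻¹) * (g * u) := by group
          _ = ((u : G)⁻¹ * a) * (g * u) := by rw [e1]
          _ = _ := by group
      · show ∑ w' : f.range, cast (ψ ((w' : V) : G)) = 0
        rw [← map_sum, sum_additive_eq_zero hWp (fun w' : f.range => ψ ((w' : V) : G))
          (fun a b => hψ _ (a : V).2 _ (b : V).2) hne2, map_zero]
    -- the part on the subgroup
    set u : MonoidAlgebra k (G ⧸ V) := ∑ c : C1, single (c : G ⧸ V) (w.coeff c) with hu
    have hIc : ∀ c : C1, single (c : G ⧸ V) (1 : k) * I = I * single (c : G ⧸ V) 1 := fun c =>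
      hfixI _ (irrComp_conj_self V C1 θ c.2)
    have hIw : I * w = I * u := by
      have hsum : w = ∑ X, single X (w.coeff X) := by
        conv_lhs => rw [← sum_coeff_single w]
        rw [Finsupp.sum_fintype _ _ fun X => single_zero X]
      have hIsum : I = ∑ X, single X (I.coeff X) := by
        conv_lhs => rw [← sum_coeff_single I]
        rw [Finsupp.sum_fintype _ _ fun X => single_zero X]
      have hIout : ∀ X, X ∉ C1 → I.coeff X = 0 := fun X hX => by
        rw [hI, coeff_rd, hcoI, thetaFun, extendByZero_not_mem _ _ hX, red_zero]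
      have hwI : w * I = I * w := by
        rw [hIsum, Finset.mul_sum, Finset.sum_mul]
        refine Finset.sum_congr rfl fun X _ => ?_
        by_cases hX : X ∈ C1
        · rw [show single X (I.coeff X) = I.coeff X • single X (1 : k) by rw [smul_single', mul_one],
            mul_smul_comm, smul_mul_assoc, hcomm X hX]
        · rw [hIout X hX, single_zero, mul_zero, zero_mul]
      calc I * w = I * w * I := by rw [mul_assoc, hwI, ← mul_assoc, hII]
        _ = ∑ X, w.coeff X • (I * single X 1 * I) := by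
            conv_lhs => rw [hsum, Finset.mul_sum, Finset.sum_mul]
            refine Finset.sum_congr rfl fun X _ => ?_
            rw [show single X (w.coeff X) = w.coeff X • single X (1 : k) by rw [smul_single', mul_one],
              mul_smul_comm, smul_mul_assoc]
        _ = ∑ c : C1, w.coeff c • (I * single (c : G ⧸ V) 1 * I) := by
            rw [← Finset.sum_subtype (Finset.univ.filter (· ∈ C1)) (fun X => by simp)
              (fun X => w.coeff X • (I * single X (1 : k) * I))]
            refine (Finset.sum_subset (Finset.subset_univ _) fun X _ hX => ?_).symm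
            simp only [Finset.mem_filter, Finset.mem_univ, true_and] at hX
            by_cases hXθ : irrComp (MulAut.conjNormal X) θ = θ
            · rw [hwX X hXθ hX, zero_smul]
            · rw [hmovI X hXθ, smul_zero]
        _ = I * u := by
            rw [hu, Finset.mul_sum]
            refine Finset.sum_congr rfl fun c _ => ?_
            rw [show single (c : G ⧸ V) (w.coeff c) = w.coeff c • single (c : G ⧸ V) (1 : k) by
              rw [smul_single', mul_one], mul_smul_comm, mul_assoc, hIc, ← mul_assoc, hII]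
    -- lift to an integral class function
    choose s hs using fun r : k => Ideal.Quotient.mk_surjective (I := resIdeal (pmod_prime hM)) r
    let f1 : C1 → ℂ := fun c => ((s (w.coeff c) : locRing (pmod_prime hM)) : ℂ)
    have hcl : IsClassFunction C1 f1 := fun a c => by
      show ((s (w.coeff ((c * a * c⁻¹ : C1) : G ⧸ V)) : locRing (pmod_prime hM)) : ℂ) = _
      have h := congrArg (fun y => y.coeff ((c : G ⧸ V) * a)) (hcomm c c.2)
      rw [coeff_single_mul_eq_mul_coeff (a : G ⧸ V) (fun m' _ => mul_right_inj _), one_mul,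
        coeff_mul_single_eq_coeff_mul ((c : G ⧸ V) * a * (c : G ⧸ V)⁻¹) (fun m' _ => eq_mul_inv_iff_mul_eq.symm),
        mul_one] at h
      rw [Subgroup.coe_mul, Subgroup.coe_mul, Subgroup.coe_inv, ← h]
    have hf1 : ∀ c, MemLocalRing M (f1 c) := fun c => (s (w.coeff c)).2
    have hext : ∀ X, MemLocalRing M (extendByZero C1 f1 X) := fun X => by
      by_cases hX : X ∈ C1
      · rw [extendByZero_mem _ _ hX]; exact hf1 _
      · rw [extendByZero_not_mem _ _ hX]; exact memLR_zero (pmod_prime hM)
    set u0 : OA (pmod_prime hM) (G ⧸ V) := ofFun _ (extendByZero C1 f1) hext with hu0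
    have hu0u : rd (pmod_prime hM) (G ⧸ V) u0 = u := by
      refine MonoidAlgebra.coeff_injective (Finsupp.ext fun X => ?_)
      rw [coeff_rd, hu0, co_ofFun, hu, coeff_sum, Finset.sum_apply']
      simp only [coeff_single, Finsupp.single_apply]
      by_cases hX : X ∈ C1
      · rw [extendByZero_mem _ _ hX, Finset.sum_eq_single (⟨X, hX⟩ : C1)
          (fun c _ hc => if_neg fun h => hc (Subtype.ext h)) (fun h => absurd (Finset.mem_univ _) h), if_pos rfl]
        show red _ ((s _ : locRing (pmod_prime hM)) : ℂ) = _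
        rw [← redHom_apply]
        exact hs _
      · rw [extendByZero_not_mem _ _ hX, red_zero, Finset.sum_eq_zero]
        exact fun c _ => if_neg fun h => hX (by rw [← h]; exact c.2)
    have hlr := memLR_lam (pmod_prime hM) θ.2 hcl hf1
    refine ⟨red _ (lam (θ : C1 → ℂ) f1), ?_⟩
    rw [hIw, ← hu0u, hI, ← map_mul]
    refine MonoidAlgebra.coeff_injective (Finsupp.ext fun X => ?_)
    rw [coeff_rd, co_mul, hcoI, hu0, co_ofFun, thetaFun, extendByZero_conv, conv_singleton θ hcl,
      coeff_smul_apply, coeff_rd, hcoI, smul_eq_mul, ← red_mul _ hlr (memLR_thetaFun V C1 hM hθ X)]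
    congr 1
    by_cases hX : X ∈ C1
    · simp [thetaFun, extendByZero_mem _ _ hX]
    · simp [thetaFun, extendByZero_not_mem _ _ hX]
  -- invariance under `t`
  set φt : G → ZMod p := fun a => φ (t * a * t⁻¹) with hφt
  have hφtA : AddOn V φt := fun a ha b hb => by
    show φ (t * (a * b) * t⁻¹) = _
    rw [show t * (a * b) * t⁻¹ = (t * a * t⁻¹) * (t * b * t⁻¹) by group,
      hφ _ (Subgroup.Normal.conj_mem inferInstance a ha t) _ (Subgroup.Normal.conj_mem inferInstance b hb t)]
  set μ : G → k := fun a => cast (φ a) - cast (φt a) with hμ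
  have hμA : AddOn V μ := fun a ha b hb => by
    simp only [hμ, hφ a ha b hb, hφtA a ha b hb, map_add]
    ring
  have hvanish : ∀ z : OA (pmod_prime hM) G, (∀ y, z * y = y * z) → proj V (rd (pmod_prime hM) G z) = 0 →
      I * der V μ (rd (pmod_prime hM) G z) = 0 := by
    intro z hz hz0
    obtain ⟨c, hc⟩ := hscalar φt hφtA z hz hz0
    have h1 := der_conj V (hcastAdd φ hφ) hz0 t
    have h2 : single t (1 : k) * rd (pmod_prime hM) G z * single t⁻¹ 1 = rd (pmod_prime hM) G z := by
      rw [← rd_gen, ← rd_gen, ← map_mul, ← map_mul, ← hz, mul_assoc, ← gen_mul, mul_inv_cancel, gen_one, mul_one]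
    rw [h2] at h1
    rw [hμ, der_sub, mul_sub, h1, ← mul_assoc, ← mul_assoc, ← hfixI _ ht, mul_assoc (single _ _) I, hc,
      mul_smul_comm, smul_mul_assoc, hfixI _ ht, mul_assoc, single_mul_single, one_mul, mul_inv_cancel,
      show (single (1 : G ⧸ V) (1 : k)) = 1 from rfl, mul_one]
    exact sub_self _
  -- the radical element
  obtain ⟨ι, _, z, c, hzc, hz⟩ := exists_decomp hM hS hd hV hab hv
  have hzero : I * der V μ (rd (pmod_prime hM) G ((gen _ v - 1) * unionElt (pmod_prime hM) hS)) = 0 := by
    rw [hzc, map_sum, map_sum, Finset.mul_sum]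
    refine Finset.sum_eq_zero fun i _ => ?_
    have hz0 := proj_central_eq_zero V hM hS hd hdp (hz i).1 (hz i).2.1 (hz i).2.2
    rw [map_mul, der_mul V hμA hz0, ← mul_assoc, hvanish _ (hz i).1 hz0, zero_mul]
  rw [map_mul, map_sub, map_one, rd_gen, der_sub_one_mul V hμA hv, mul_smul_comm, ← rd_push, hI, ← map_mul]
    at hzero
  set e1 := push (QuotientGroup.mk' V) (unionElt (pmod_prime hM) hS) with he1
  have hidem : IsIdempotentElem (I0 * e1) := by
    refine IsIdempotentElem.mul_of_commute ?_ hI0i ((unionElt_idem hS).map _)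
    obtain ⟨x, hx⟩ := push_surjective V (pmod_prime hM) I0
    show I0 * e1 = e1 * I0
    rw [he1, ← hx, ← map_mul, ← map_mul, ← unionElt_comm hS]
  have hne : I0 * e1 ≠ 0 := by
    intro h0
    have htr : trC (χ0 : G ⧸ V → ℂ) (I0 * e1) = trC (χ0 : G ⧸ V → ℂ) I0 := by
      obtain ⟨x, hx⟩ := push_surjective V (pmod_prime hM) I0
      rw [he1, ← hx, ← map_mul, trC_push, trC_push]
      show trC (inflChar V χ0 : G → ℂ) (x * unionElt (pmod_prime hM) hS) = trC (inflChar V χ0 : G → ℂ) x
      rw [trC_mul_unionElt hS, if_pos hχ0, one_mul]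
    rw [h0, trC_zero, trC, hcoI, thetaFun, sum_extendByZero_mul, blockCoeff_singleton] at htr
    refine hcon ?_
    have h3 : (θ : C1 → ℂ) 1 * classInner (fun n : C1 => (χ0 : G ⧸ V → ℂ) n) (θ : C1 → ℂ) = 0 := by
      rw [htr, classInner, Finset.mul_sum, Finset.mul_sum]
      refine Finset.sum_congr rfl fun n _ => ?_
      simp only [idem]
      ring
    exact (mul_eq_zero.mp h3).resolve_left (irr_one_ne_zero θ.2)
  refine (smul_ne_zero ?_ (idem_ne_zero_mod _ hidem hne)) hzero
  show cast (φ v) - cast (φ (t * v * t⁻¹)) ≠ 0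
  rw [sub_ne_zero]
  exact fun h => hφv (cast.injective h).symm

end Cfsg.Agent.Char.EqualDeg
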