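import Mathlib

/-!
# A derivation of a group algebra over a normal subgroup

An additive function `μ` on a normal subgroup `V` gives an additive map from the group algebra of `G` to that of
`G / V`; on the kernel of the projection it is linear over the right action and equivariant under conjugation.
-/

set_option autoImplicit false
set_option linter.unusedSectionVars false

namespace Cfsg.Agent.Char.EqualDeg

open MonoidAlgebra

universe u v

theorem zmod_two_cases : ∀ z : ZMod 2, z = 0 ∨ z = 1 := by decide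

theorem zmod_two_one_add_one : (1 : ZMod 2) + 1 ≠ 1 ∧ (0 : ZMod 2) ≠ 0 + 1 ∧ (1 : ZMod 2) + 1 = 0 := by decide


variable {k : Type v} [CommRing k] {G : Type u} [Group G]

/-- Additivity on a subgroup. -/
def AddOn (V : Subgroup G) (μ : G → k) : Prop := ∀ a ∈ V, ∀ b ∈ V, μ (a * b) = μ a + μ b

theorem AddOn.map_one {V : Subgroup G} {μ : G → k} (h : AddOn V μ) : μ 1 = 0 := by
  have h1 := h 1 V.one_mem 1 V.one_mem
  rw [one_mul] at h1
  exact add_eq_left.mp h1.symm

variable (V : Subgroup G) [V.Normal]

theorem mul_out_inv_mem (g : G) : g * ((g : G ⧸ V).out)⁻¹ ∈ V := by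
  have h : ((g * ((g : G ⧸ V).out)⁻¹ : G) : G ⧸ V) = 1 := by
    rw [QuotientGroup.mk_mul, QuotientGroup.mk_inv, QuotientGroup.out_eq', mul_inv_cancel]
  exact (QuotientGroup.eq_one_iff _).mp h

/-- The weight of an element relative to the chosen representative of its coset. -/
noncomputable def wt (μ : G → k) (g : G) : k := μ (g * ((g : G ⧸ V).out)⁻¹)

theorem mk_mul_of_mem {a : G} (ha : a ∈ V) (g : G) : ((a * g : G) : G ⧸ V) = g := by
  rw [QuotientGroup.mk_mul, (QuotientGroup.eq_one_iff a).mpr ha, one_mul]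

theorem wt_mul {μ : G → k} (hμ : AddOn V μ) {a : G} (ha : a ∈ V) (g : G) :
    wt V μ (a * g) = μ a + wt V μ g := by
  rw [wt, mk_mul_of_mem V ha, mul_assoc, hμ _ ha _ (mul_out_inv_mem V g), wt]

theorem wt_out {μ : G → k} (hμ : AddOn V μ) (X : G ⧸ V) : wt V μ X.out = 0 := by
  rw [wt, QuotientGroup.out_eq', mul_inv_cancel, hμ.map_one]

theorem exists_eq_mul_out (g : G) : ∃ a ∈ V, g = a * (g : G ⧸ V).out :=
  ⟨_, mul_out_inv_mem V g, (inv_mul_cancel_right g _).symm⟩

/-- The projection of group algebras. -/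
noncomputable abbrev proj : MonoidAlgebra k G →+* MonoidAlgebra k (G ⧸ V) :=
  mapDomainRingHom k (QuotientGroup.mk' V)

theorem proj_single (g : G) (r : k) : proj V (single g r) = single (g : G ⧸ V) r := by
  simp [proj]

/-- Two additive maps differing by a function of the coset agree on the kernel of the projection. -/
theorem eq_of_proj_eq_zero {N : Type*} [AddCommGroup N] (f g : MonoidAlgebra k G →+ N)
    (K : MonoidAlgebra k (G ⧸ V) →+ N)
    (h : ∀ a r, f (single a r) = g (single a r) + K (single (a : G ⧸ V) r)) {x : MonoidAlgebra k G}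
    (hx : proj V x = 0) : f x = g x := by
  have e : f = g + K.comp (proj (k := k) V).toAddMonoidHom := by
    refine MonoidAlgebra.addMonoidHom_ext fun a r => ?_
    rw [AddMonoidHom.add_apply, AddMonoidHom.comp_apply, RingHom.toAddMonoidHom_eq_coe,
      AddMonoidHom.coe_coe, proj_single, h]
  rw [e, AddMonoidHom.add_apply, AddMonoidHom.comp_apply, RingHom.toAddMonoidHom_eq_coe,
    AddMonoidHom.coe_coe, hx, map_zero, add_zero]

variable [Fintype G] [Fintype (G ⧸ V)]

/-- The derivation of an additive function. -/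
noncomputable def der (μ : G → k) : MonoidAlgebra k G →+ MonoidAlgebra k (G ⧸ V) :=
  AddMonoidHom.mk' (fun x => ∑ g : G, single (g : G ⧸ V) (x.coeff g * wt V μ g)) fun x y => by
    simp only [coeff_add, Finsupp.add_apply, add_mul, single_add, Finset.sum_add_distrib]

theorem der_apply (μ : G → k) (x : MonoidAlgebra k G) :
    der V μ x = ∑ g : G, single (g : G ⧸ V) (x.coeff g * wt V μ g) := rfl

theorem der_single (μ : G → k) (a : G) (r : k) :
    der V μ (single a r) = single (a : G ⧸ V) (r * wt V μ a) := by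
  classical
  rw [der_apply, Finset.sum_eq_single a (fun b _ hb => by
    rw [coeff_single, Finsupp.single_eq_of_ne hb, zero_mul, single_zero])
    (fun h => absurd (Finset.mem_univ a) h), coeff_single, Finsupp.single_eq_same]

/-- Multiplication of the coefficients by a function, moved along a map of the basis. -/
noncomputable def shift (c : G ⧸ V → k) (φ : G ⧸ V → G ⧸ V) :
    MonoidAlgebra k (G ⧸ V) →+ MonoidAlgebra k (G ⧸ V) :=
  AddMonoidHom.mk' (fun y => ∑ X : G ⧸ V, single (φ X) (y.coeff X * c X)) fun x y => by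
    simp only [coeff_add, Finsupp.add_apply, add_mul, single_add, Finset.sum_add_distrib]

theorem shift_single (c : G ⧸ V → k) (φ : G ⧸ V → G ⧸ V) (X : G ⧸ V) (r : k) :
    shift V c φ (single X r) = single (φ X) (r * c X) := by
  classical
  show ∑ Y : G ⧸ V, single (φ Y) ((single X r).coeff Y * c Y) = _
  rw [Finset.sum_eq_single X (fun b _ hb => by
    rw [coeff_single, Finsupp.single_eq_of_ne hb, zero_mul, single_zero])
    (fun h => absurd (Finset.mem_univ X) h), coeff_single, Finsupp.single_eq_same]

theorem der_mul {μ : G → k} (hμ : AddOn V μ) {x : MonoidAlgebra k G} (hx : proj V x = 0)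
    (y : MonoidAlgebra k G) : der V μ (x * y) = der V μ x * proj V y := by
  induction y using MonoidAlgebra.induction_linear with
  | zero => rw [mul_zero, map_zero, map_zero, mul_zero]
  | add y z hy hz => rw [mul_add, map_add, map_add, hy, hz, mul_add]
  | single h r =>
    rw [proj_single]
    refine eq_of_proj_eq_zero V ((der V μ).comp (AddMonoidHom.mulRight (single h r)))
      ((AddMonoidHom.mulRight (single (h : G ⧸ V) r)).comp (der V μ))
      (shift V (fun X => r * wt V μ (X.out * h)) (fun X => X * (h : G ⧸ V))) (fun a s => ?_) hx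
    simp only [AddMonoidHom.comp_apply, AddMonoidHom.coe_mulRight, single_mul_single, der_single,
      shift_single]
    rw [← QuotientGroup.mk_mul, ← single_add]
    congr 1
    obtain ⟨b, hb, hab⟩ := exists_eq_mul_out V a
    have e1 : wt V μ a = μ b := by
      conv_lhs => rw [hab]
      rw [wt_mul V hμ hb, wt_out V hμ, add_zero]
    have e2 : wt V μ (a * h) = μ b + wt V μ ((a : G ⧸ V).out * h) := by
      conv_lhs => rw [hab, mul_assoc]
      rw [wt_mul V hμ hb]
    rw [e1, e2]
    ring

theorem der_conj {μ : G → k} (hμ : AddOn V μ) {x : MonoidAlgebra k G} (hx : proj V x = 0) (h : G) :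
    der V μ (single h 1 * x * single h⁻¹ 1) =
      single (h : G ⧸ V) 1 * der V (fun a => μ (h * a * h⁻¹)) x * single (h : G ⧸ V)⁻¹ 1 := by
  refine eq_of_proj_eq_zero V
    ((der V μ).comp ((AddMonoidHom.mulRight (single h⁻¹ 1)).comp (AddMonoidHom.mulLeft (single h 1))))
    (((AddMonoidHom.mulRight (single (h : G ⧸ V)⁻¹ 1)).comp (AddMonoidHom.mulLeft (single (h : G ⧸ V) 1))).comp
      (der V (fun a => μ (h * a * h⁻¹))))
    (shift V (fun X => wt V μ (h * X.out * h⁻¹)) (fun X => (h : G ⧸ V) * X * (h : G ⧸ V)⁻¹)) (fun a s => ?_) hx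
  simp only [AddMonoidHom.comp_apply, AddMonoidHom.coe_mulRight, AddMonoidHom.coe_mulLeft,
    single_mul_single, der_single, shift_single, one_mul, mul_one]
  rw [← QuotientGroup.mk_mul, ← QuotientGroup.mk_inv, ← QuotientGroup.mk_mul, ← single_add]
  congr 1
  obtain ⟨b, hb, hab⟩ := exists_eq_mul_out V a
  have hμ' : AddOn V fun a => μ (h * a * h⁻¹) := fun c hc d hd => by
    show μ (h * (c * d) * h⁻¹) = _
    rw [show h * (c * d) * h⁻¹ = (h * c * h⁻¹) * (h * d * h⁻¹) by group]
    exact hμ _ (Subgroup.Normal.conj_mem inferInstance c hc h) _ (Subgroup.Normal.conj_mem inferInstance d hd h)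
  have e1 : wt V (fun a => μ (h * a * h⁻¹)) a = μ (h * b * h⁻¹) := by
    conv_lhs => rw [hab]
    rw [wt_mul V hμ' hb, wt_out V hμ', add_zero]
  have e2 : wt V μ (h * a * h⁻¹) = μ (h * b * h⁻¹) + wt V μ (h * (a : G ⧸ V).out * h⁻¹) := by
    conv_lhs => rw [hab, show h * (b * (a : G ⧸ V).out) * h⁻¹ =
      (h * b * h⁻¹) * (h * (a : G ⧸ V).out * h⁻¹) by group]
    rw [wt_mul V hμ (Subgroup.Normal.conj_mem inferInstance b hb h)]
  rw [e1, e2]
  ring

theorem der_sub (μ ν : G → k) (x : MonoidAlgebra k G) :
    der V (fun a => μ a - ν a) x = der V μ x - der V ν x := by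
  rw [eq_sub_iff_add_eq, der_apply, der_apply, der_apply, ← Finset.sum_add_distrib]
  refine Finset.sum_congr rfl fun g _ => ?_
  rw [← single_add]
  congr 1
  simp only [wt]
  ring

theorem der_sub_one_mul {μ : G → k} (hμ : AddOn V μ) {a : G} (ha : a ∈ V) (y : MonoidAlgebra k G) :
    der V μ ((single a 1 - 1) * y) = μ a • proj V y := by
  induction y using MonoidAlgebra.induction_linear with
  | zero => rw [mul_zero, map_zero, map_zero, smul_zero]
  | add y z hy hz => rw [mul_add, map_add, map_add, hy, hz, smul_add]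
  | single g r =>
    rw [sub_mul, one_mul, single_mul_single, one_mul, map_sub, der_single, der_single, mk_mul_of_mem V ha,
      proj_single, smul_single', sub_eq_iff_eq_add, ← single_add, wt_mul V hμ ha]
    congr 1
    ring

theorem coeff_der {μ : G → k} [Fintype V] (x : MonoidAlgebra k G) (X : G ⧸ V) :
    (der V μ x).coeff X = ∑ a : V, x.coeff ((a : G) * X.out) * μ a := by
  classical
  rw [der_apply, coeff_sum, Finset.sum_apply']
  simp only [coeff_single, Finsupp.single_apply]
  rw [← Finset.sum_filter]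
  symm
  refine Finset.sum_nbij' (fun a : V => (a : G) * X.out) (fun g => ⟨g * ((g : G ⧸ V).out)⁻¹, mul_out_inv_mem V g⟩)
    (fun a _ => ?_) (fun g _ => Finset.mem_univ _) (fun a _ => Subtype.ext ?_) (fun g hg => ?_) fun a _ => ?_
  · simp [mk_mul_of_mem V a.2]
  · simp [mk_mul_of_mem V a.2, mul_inv_cancel_right]
  · simp only [Finset.mem_filter] at hg
    simp [← hg.2]
  · simp [wt, mk_mul_of_mem V a.2, mul_inv_cancel_right]

/-- A function constant on the cosets of `W` is orthogonal to an additive function with vanishing sum on `W`. -/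
theorem sum_mul_eq_zero {Γ : Type*} [Group Γ] [Fintype Γ] (W : Subgroup Γ) [Fintype W] (F μ : Γ → k)
    (hF : ∀ a, ∀ w ∈ W, F (a * w) = F a) (hμ : ∀ a, ∀ w ∈ W, μ (a * w) = μ a + μ w)
    (hcard : (Nat.card W : k) = 0) (hsum : ∑ w : W, μ w = 0) : ∑ a, F a * μ a = 0 := by
  classical
  let e : (Γ ⧸ W) × W ≃ Γ :=
    { toFun := fun z => z.1.out * (z.2 : Γ)
      invFun := fun a => ((a : Γ ⧸ W), ⟨((a : Γ ⧸ W).out)⁻¹ * a, QuotientGroup.eq.mp (QuotientGroup.out_eq' _)⟩)
      left_inv := fun z => by
        have h : ((z.1.out * (z.2 : Γ) : Γ) : Γ ⧸ W) = z.1 := by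
          rw [QuotientGroup.mk_mul_of_mem _ z.2.2, QuotientGroup.out_eq']
        refine Prod.ext h (Subtype.ext ?_)
        show ((z.1.out * (z.2 : Γ) : Γ) : Γ ⧸ W).out⁻¹ * (z.1.out * (z.2 : Γ)) = (z.2 : Γ)
        rw [h, inv_mul_cancel_left]
      right_inv := fun a => mul_inv_cancel_left _ _ }
  rw [← Equiv.sum_comp e, Fintype.sum_prod_type]
  refine Finset.sum_eq_zero fun q _ => ?_
  simp only [e, Equiv.coe_fn_mk]
  rw [Finset.sum_congr rfl fun (w : W) _ => by rw [hF _ _ w.2, hμ _ _ w.2, mul_add],
    Finset.sum_add_distrib, ← Finset.mul_sum, ← Finset.mul_sum, hsum, Finset.sum_const, Finset.card_univ,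
    nsmul_eq_mul, ← Nat.card_eq_fintype_card, hcard, zero_mul, mul_zero, add_zero]

/-- The values of an additive function on a `p`-group sum to zero unless the group has order two. -/
theorem sum_additive_eq_zero {p : ℕ} [Fact p.Prime] {W : Type*} [Group W] [Fintype W] (hW : IsPGroup p W)
    (f : W → ZMod p) (hf : ∀ a b, f (a * b) = f a + f b) (h2 : Nat.card W ≠ 2) : ∑ w, f w = 0 := by
  classical
  have hp := (Fact.out : p.Prime)
  by_cases hzero : ∀ w, f w = 0
  · simp [hzero]
  push Not at hzero
  obtain ⟨w1, hw1⟩ := hzero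
  have h1 : f 1 = 0 := by
    have := hf 1 1
    rw [one_mul] at this
    exact add_eq_left.mp this.symm
  rcases hp.eq_two_or_odd with rfl | hodd
  · have hz : ∀ z : ZMod 2, z = 0 ∨ z = 1 := zmod_two_cases
    have hw : f w1 = 1 := (hz _).resolve_left hw1
    have key : (Finset.univ.filter fun w => f w = 1).card = (Finset.univ.filter fun w => ¬ f w = 1).card := by
      refine Finset.card_nbij' (fun w => w * w1) (fun w => w * w1⁻¹) ?_ ?_ (fun w _ => by simp) (fun w _ => by simp)
      · intro w hw'
        simp only [Finset.coe_filter, Finset.mem_univ, true_and, Set.mem_ofPred_eq] at hw' ⊢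
        rw [hf, hw', hw]
        exact zmod_two_one_add_one.1
      · intro w hw'
        simp only [Finset.coe_filter, Finset.mem_univ, true_and, Set.mem_ofPred_eq] at hw' ⊢
        have h := hf (w * w1⁻¹) w1
        rw [inv_mul_cancel_right, (hz (f w)).resolve_right hw', hw] at h
        rcases hz (f (w * w1⁻¹)) with e | e
        · rw [e] at h; exact absurd h zmod_two_one_add_one.2.1
        · exact e
    have hsplit := Finset.card_filter_add_card_filter_not (s := (Finset.univ : Finset W)) (fun w => f w = 1)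
    rw [← key, Finset.card_univ, ← Nat.card_eq_fintype_card] at hsplit
    obtain ⟨n, hn⟩ := IsPGroup.iff_card.mp hW
    have e : ∑ w, f w = ((Finset.univ.filter fun w => f w = 1).card : ZMod 2) := by
      rw [← Finset.sum_boole]
      exact Finset.sum_congr rfl fun w _ => by rcases hz (f w) with e | e <;> simp [e]
    rw [e, ZMod.natCast_eq_zero_iff]
    match n, hn with
    | 0, hn => omega
    | 1, hn => exact absurd (by simpa using hn) h2
    | m + 2, hn =>
      refine ⟨2 ^ m, ?_⟩
      rw [hn, pow_add] at hsplit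
      omega
  · have hneg : ∀ w, f w⁻¹ = -f w := fun w => by
      have h := hf w w⁻¹
      rw [mul_inv_cancel, h1] at h
      exact eq_neg_of_add_eq_zero_right h.symm
    have e : ∑ w, f w = -∑ w, f w := by
      conv_lhs => rw [← Equiv.sum_comp (Equiv.inv W)]
      simp [hneg, Finset.sum_neg_distrib]
    have h2' : ((2 : ℕ) : ZMod p) * ∑ w, f w = 0 := by
      rw [Nat.cast_two, two_mul]
      exact add_eq_zero_iff_eq_neg.mpr e
    refine (mul_eq_zero.mp h2').resolve_left fun h => ?_
    have hdvd := Nat.le_of_dvd two_pos ((ZMod.natCast_eq_zero_iff _ _).mp h)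
    have := hp.two_le
    omega

end Cfsg.Agent.Char.EqualDeg
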