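import Cfsg.Agent.S4828
import Cfsg.Agent.Lib.Char.MinimalSquareSum
import Cfsg.Agent.Lib.Char.BlockNilpotent
import Cfsg.Agent.Lib.Char.CoverBlocks

/-!
# Fusion in a block with normal defect group

If the regular elements fixing a maximal pair on a normal defect group centralize it, the block is nilpotent.
-/

set_option autoImplicit false
set_option linter.unusedSectionVars false
set_option linter.style.haveILetI false

namespace Cfsg.Agent.Char.EqualDeg

open Cfsg

universe u

variable {G : Type u} [Group G] [Fintype G] {M : Ideal AlgInt} {p : ℕ}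

theorem mem_of_pow_mem {H : Subgroup G} {g : G} {a b : ℕ} (hab : a.Coprime b) (ha : g ^ a ∈ H) (hb : g ^ b ∈ H) :
    g ∈ H := by
  have h := Nat.gcd_eq_gcd_ab a b
  rw [hab.gcd_eq_one, Nat.cast_one] at h
  have e : g = (g ^ a) ^ (Nat.gcdA a b) * (g ^ b) ^ (Nat.gcdB a b) := by
    rw [← zpow_natCast g a, ← zpow_natCast g b, ← zpow_mul, ← zpow_mul, ← zpow_add, ← h, zpow_one]
  rw [e]
  exact H.mul_mem (H.zpow_mem ha _) (H.zpow_mem hb _)

/-- The split of an element into the exponents of its regular and singular parts. -/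
theorem exists_exponents (hp : p.Prime) (g : G) :
    ∃ a m : ℕ, ¬ p ∣ m ∧ (p ^ a).Coprime m ∧ g ^ (p ^ a * m) = 1 ∧
      (∃ k, orderOf (g ^ m) = p ^ k) ∧ ¬ p ∣ orderOf (g ^ p ^ a) := by
  refine ⟨(orderOf g).factorization p, orderOf g / p ^ (orderOf g).factorization p,
    Nat.not_dvd_ordCompl hp (orderOf_pos g).ne', ?_, ?_, ?_, ?_⟩
  · exact (hp.coprime_iff_not_dvd.mpr (Nat.not_dvd_ordCompl hp (orderOf_pos g).ne')).pow_left _
  · rw [Nat.ordProj_mul_ordCompl_eq_self, pow_orderOf_eq_one]
  · obtain ⟨k, -, hk⟩ := (Nat.dvd_prime_pow hp).mp (show orderOf (g ^ (orderOf g / p ^ (orderOf g).factorization p)) ∣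
        p ^ (orderOf g).factorization p from orderOf_dvd_of_pow_eq_one (by
      rw [← pow_mul, mul_comm, Nat.ordProj_mul_ordCompl_eq_self, pow_orderOf_eq_one]))
    exact ⟨k, hk⟩
  · intro hd
    refine Nat.not_dvd_ordCompl hp (orderOf_pos g).ne' (hd.trans (orderOf_dvd_of_pow_eq_one ?_))
    rw [← pow_mul, Nat.ordProj_mul_ordCompl_eq_self, pow_orderOf_eq_one]

variable {D : Subgroup G} {e : Set (IrrCharacter (Subgroup.centralizer (D : Set G)))}

open scoped Classical in
/-- A conjugation mapping one member of a block into it stabilizes the block. -/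
theorem stab_of_mem [D.Normal] (hM : IsPModular p M) (he : IsPBlock M e) [Fintype (Subgroup.centralizer (D : Set G))]
    {w : G} {ξ : IrrCharacter (Subgroup.centralizer (D : Set G))} (hξ : ξ ∈ e)
    (hw : irrComp (MulAut.conjNormal w) ξ ∈ e) :
    StabilizesBlock (Subgroup.centralizer (D : Set G)) e w := by
  have hP := pmod_prime hM
  haveI : (Subgroup.centralizer (D : Set G)).Normal := Subgroup.normal_centralizer
  have hwN : w ∈ Subgroup.normalizer (D : Set G) := by rw [Subgroup.normalizer_eq_top]; trivial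
  have hsub : irrComp (conjC D ⟨w, hwN⟩) '' e = e := by
    have hb := isPBlock_image (conjC D ⟨w, hwN⟩) he
    have hmem : irrComp (conjC D ⟨w, hwN⟩) ξ ∈ e := by
      have e1 : conjC D ⟨w, hwN⟩ = MulAut.conjNormal w := MulEquiv.ext fun c => Subtype.ext (by
        rw [MulAut.conjNormal_apply]; rfl)
      rw [e1]; exact hw
    rw [block_eq_blockOf hP hb ⟨ξ, hξ, rfl⟩, ← block_eq_blockOf hP he hmem]
  refine stabilizes_of_blockCoeff hP hwN he fun y => ?_
  rw [subgroupBlockCoeff_eq]
  by_cases hy : y ∈ Subgroup.centralizer (D : Set G)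
  · rw [extendByZero_mem _ _ hy, extendByZero_mem _ _ (conj_mem_centralizer hwN hy)]
    conv_rhs => rw [← hsub, blockCoeff_image]
    exact congrArg _ (Subtype.ext rfl)
  · rw [extendByZero_not_mem _ _ hy, extendByZero_not_mem]
    exact fun h' => hy (by simpa [mul_assoc] using conj_mem_centralizer (inv_mem hwN) h')

theorem memLR_sbc (hM : IsPModular p M) {K : Subgroup G} {f : Set (IrrCharacter K)} (hf : IsPBlock M f) (y : G) :
    MemLocalRing M (subgroupBlockCoeff K f y) := by
  haveI := Fintype.ofFinite K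
  rw [subgroupBlockCoeff_eq]
  by_cases hy : y ∈ K
  · rw [extendByZero_mem _ _ hy]; exact memLR_blockCoeff hM hf _
  · rw [extendByZero_not_mem _ _ hy]; exact memLR_zero (pmod_prime hM)

theorem sbc_not_ceq_zero (hM : IsPModular p M) {K : Subgroup G} {f : Set (IrrCharacter K)} (hf : IsPBlock M f) :
    ¬ CEq M (subgroupBlockCoeff K f) 0 := by
  classical
  haveI := Fintype.ofFinite K
  intro h
  have hP := pmod_prime hM
  obtain ⟨ξ, hξ⟩ := block_nonempty hP hf
  have h1 := lam_ceq hP ξ (isIntClassFun_blockCoeff hM hf).1 (g := 0) (fun _ _ => rfl) fun x => by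
    have h2 := h (x : G)
    rwa [subgroupBlockCoeff_eq, extendByZero_mem _ _ x.2] at h2
  rw [lam_blockCoeff, if_pos hξ, lam_zero, sub_zero] at h1
  exact memLI_one_iff hP h1

open scoped Classical in
/-- The idempotents along a chain of pairs do not kill that of the top. -/
theorem cover_of_rel (hM : IsPModular p M) {a b : BrauerPairIdx G} (hb : IsPBlock M b.2)
    (hab : Relation.ReflTransGen (NormalSubpairRel p M) a b) :
    ¬ CEq M (conv (subgroupBlockCoeff (Subgroup.centralizer (a.1 : Set G)) a.2)
      (subgroupBlockCoeff (Subgroup.centralizer (b.1 : Set G)) b.2)) 0 := by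
  have hP := pmod_prime hM
  induction hab using Relation.ReflTransGen.head_induction_on with
  | refl => rw [conv_subgroupBlockCoeff]; exact sbc_not_ceq_zero hM hb
  | @head x c hxc hcb ih =>
    intro h0
    obtain ⟨⟨-, hx⟩, ⟨hcp, hc⟩, hle, hN, hst, hone⟩ := hxc
    set K := Subgroup.centralizer (c.1 : Set G)
    haveI : Fintype K := Fintype.ofFinite K
    set E := subgroupBlockCoeff (Subgroup.centralizer (b.1 : Set G)) b.2 with hE
    set βx := subgroupBlockCoeff (Subgroup.centralizer (x.1 : Set G)) x.2 with hβx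
    set βc := subgroupBlockCoeff K c.2 with hβc
    have hbK : Subgroup.centralizer (b.1 : Set G) ≤ K := centralizer_antitone (subpair_rel_le hcb)
    set T := extendByZero K (tr c.1 βx) with hT
    have hT0 : ∀ y, conv T E y = if y ∈ K then conv βx E y else 0 := by
      intro y
      by_cases hy : y ∈ K
      · rw [if_pos hy]
        refine Finset.sum_congr rfl fun z _ => ?_
        by_cases hz : z ∈ K
        · rw [hT, extendByZero_mem _ _ hz]; rfl
        · have : E (z⁻¹ * y) = 0 := by
            rw [hE, subgroupBlockCoeff_eq, extendByZero_not_mem]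
            exact fun h => hz (by
              have h2 := mul_mem hy (inv_mem (hbK h))
              simpa using h2)
          rw [this, mul_zero, mul_zero]
      · rw [if_neg hy]
        refine Finset.sum_eq_zero fun z _ => ?_
        by_cases hz : z ∈ K
        · rw [show E (z⁻¹ * y) = 0 by
            rw [hE, subgroupBlockCoeff_eq, extendByZero_not_mem]
            exact fun h => hy (by simpa using mul_mem hz (hbK h)), mul_zero]
        · rw [hT, extendByZero_not_mem _ _ hz, zero_mul]
    have hgood := isGoodFun_stable hM hle hN hx hst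
    have hidem := isModIdem_tr hM hcp hgood (conv_subgroupBlockCoeff _ _)
    obtain ⟨ξ, hξ⟩ := block_nonempty hP hc
    have hlam : MemLocalIdeal M (lam (ξ : K → ℂ) (tr c.1 βx) - 1) := by
      have := hone ξ hξ
      rwa [brauerOmega_eq] at this
    have hK : CEq M (conv T βc) βc := by
      intro y
      rw [hT, hβc, subgroupBlockCoeff_eq, extendByZero_conv]
      by_cases hy : y ∈ K
      · rw [extendByZero_mem _ _ hy, extendByZero_mem _ _ hy]
        refine memLI_trans hP (conv_idem_block hM hidem hc hξ ⟨y, hy⟩) ?_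
        rw [Pi.smul_apply, smul_eq_mul, ← sub_one_mul]
        exact memLI_mul_right hP hlam (memLR_blockCoeff hM hc _)
      · rw [extendByZero_not_mem _ _ hy, extendByZero_not_mem _ _ hy, sub_zero]
        exact memLI_zero hP
    refine ih fun y => ?_
    have hR : ∀ z, MemLocalRing M (E z) := memLR_sbc hM hb
    have h1 : MemLocalIdeal M (conv (conv T βc) E y - conv βc E y) := by
      simp only [conv, ← Finset.sum_sub_distrib, ← sub_mul]
      exact memLI_sum hP _ _ fun z _ => memLI_mul_right hP (hK z) (hR _)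
    have h2 : conv (conv T βc) E y = conv βc (conv T E) y := by
      have hcomm : conv T βc = conv βc T := by
        rw [hT, hβc, subgroupBlockCoeff_eq, extendByZero_conv, extendByZero_conv,
          conv_comm _ (isClassFunction_blockCoeff c.2)]
      rw [hcomm, conv_assoc]
    rw [Pi.zero_apply, sub_zero]
    refine memLI_congr hP (memLI_symm hP h1) ?_
    rw [h2]
    refine memLI_sum hP _ _ fun z _ => memLI_mul_left hP (memLR_sbc hM hc z) ?_
    rw [hT0]
    split_ifs
    · simpa using h0 (z⁻¹ * y)
    · exact memLI_zero hP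

/-- The orbit union of a translated block of `C(D)` under a subgroup. -/
def orbSet (K : Subgroup G) (N : Subgroup G) [N.Normal] [Fintype N] (e : Set (IrrCharacter N)) (w : G) : Set (IrrCharacter N) :=
  {η | ∃ k ∈ K, irrComp (MulAut.conjNormal (k * w)) η ∈ e}

open scoped Classical in
/-- Two translates of a block of a normal subgroup covered by one block are conjugate. -/
theorem exists_conj_of_cover (hM : IsPModular p M) (K N : Subgroup G) [N.Normal] [Fintype K] [Fintype N]
    (hNK : N ≤ K) {e : Set (IrrCharacter N)} (he : IsPBlock M e) {f : Set (IrrCharacter K)} (hf : IsPBlock M f) {z : G}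
    (h1 : ¬ CEq M (conv (subgroupBlockCoeff K f) (subgroupBlockCoeff N e)) 0)
    (h2 : ¬ CEq M (conv (subgroupBlockCoeff K f) (fun y => subgroupBlockCoeff N e (z⁻¹ * y * z))) 0) :
    ∃ k ∈ K, ∃ ξ ∈ e, irrComp (MulAut.conjNormal (k * z)) ξ ∈ e := by
  have hP := pmod_prime hM
  set βf := subgroupBlockCoeff K f with hβf
  let U : G → Set (IrrCharacter N) := fun w => orbSet K N e w
  let E : G → G → ℂ := fun w => extendByZero N (blockCoeff (U w))
  have hclosed : ∀ w, ∀ χ ψ : IrrCharacter N, χ ∈ U w → SameBlock M (χ : N → ℂ) (ψ : N → ℂ) → ψ ∈ U w := by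
    rintro w χ ψ ⟨k, hk, hχ⟩ hs
    exact ⟨k, hk, (mem_block_iff hP he hχ _).mpr (sameBlock_irrComp _ hs)⟩
  have hER : ∀ w y, MemLocalRing M (E w y) := fun w y => by
    by_cases hy : y ∈ N
    · simp only [E, extendByZero_mem _ _ hy]; exact memLR_blockCoeff_union hM (hclosed w) _
    · simp only [E, extendByZero_not_mem _ _ hy]; exact memLR_zero hP
  have hinv : ∀ w, ∀ k ∈ K, ∀ y, E w (k * y * k⁻¹) = E w y := by
    intro w k hk y
    have himg : irrTransport (MulAut.conjNormal k : N ≃* N) '' U w = U w := by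
      have hk' : ∀ g ∈ K, ∀ η ∈ U w, irrComp (MulAut.conjNormal g) η ∈ U w := by
        rintro g hg η ⟨k', hk', h⟩
        refine ⟨g⁻¹ * k', K.mul_mem (K.inv_mem hg) hk', ?_⟩
        rw [irrComp_conj_mul, show g * (g⁻¹ * k' * w) = k' * w by group]
        exact h
      ext η
      constructor
      · rintro ⟨ζ, hζ, rfl⟩; exact hk' k hk ζ hζ
      · exact fun h => ⟨irrComp (MulAut.conjNormal k⁻¹) η, hk' _ (K.inv_mem hk) η h, by
          show irrComp (MulAut.conjNormal k) (irrComp (MulAut.conjNormal k⁻¹) η) = η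
          rw [irrComp_conj_mul, inv_mul_cancel, irrComp_conj_one]⟩
    by_cases hy : y ∈ N
    · simp only [E, extendByZero_mem _ _ hy, extendByZero_mem _ _ (Subgroup.Normal.conj_mem inferInstance y hy k)]
      conv_rhs => rw [← himg, blockCoeff_transport]
      exact congrArg _ (Subtype.ext (by simp [MulAut.conjNormal_apply]))
    · simp only [E, extendByZero_not_mem _ _ hy]
      exact extendByZero_not_mem _ _ fun h => hy (by simpa [mul_assoc] using Subgroup.Normal.conj_mem (inferInstance : N.Normal) _ h k⁻¹)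
  have hEE : ∀ w, conv (E w) (E w) = E w := fun w => by
    simp only [E]
    rw [extendByZero_conv, conv_blockCoeff]
  -- restriction to `K`
  let EK : G → K → ℂ := fun w x => E w (x : G)
  have hext : ∀ w, extendByZero K (EK w) = E w := fun w => funext fun y => by
    by_cases hy : y ∈ K
    · rw [extendByZero_mem _ _ hy]
    · rw [extendByZero_not_mem _ _ hy]
      exact (extendByZero_not_mem _ _ fun h => hy (hNK h)).symm
  have hEKi : ∀ w, IsModIdem M (EK w) := fun w => by
    refine ⟨⟨fun a k => hinv w k k.2 a, fun x => hER w x⟩, ?_⟩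
    have h := hEE w
    rw [← hext w, extendByZero_conv] at h
    refine fun x => ?_
    have h' := congrFun h (x : G)
    rw [extendByZero_mem _ _ x.2, extendByZero_mem _ _ x.2] at h'
    rw [h', sub_self]
    exact memLI_zero hP
  obtain ⟨χ, hχ⟩ := block_nonempty hP hf
  have key : ∀ w, ¬ CEq M (conv βf (fun y => subgroupBlockCoeff N e (w⁻¹ * y * w))) 0 →
      CEq M (conv βf (E w)) βf := by
    intro w hne
    have hcase : CEq M (conv βf (E w)) (lam (χ : K → ℂ) (EK w) • βf) := fun y => by
      rw [hβf, subgroupBlockCoeff_eq, ← hext w, extendByZero_conv]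
      by_cases hy : y ∈ K
      · rw [extendByZero_mem _ _ hy, Pi.smul_apply, extendByZero_mem _ _ hy,
          ← conv_comm (EK w) (isClassFunction_blockCoeff f)]
        exact conv_idem_block hM (hEKi w) hf hχ ⟨y, hy⟩
      · rw [extendByZero_not_mem _ _ hy, Pi.smul_apply, extendByZero_not_mem _ _ hy, smul_zero, sub_zero]
        exact memLI_zero hP
    rcases (hEKi w).lam_cases hP χ with h0 | h1
    · refine absurd ?_ hne
      -- the translated block lies in the union
      set ew : Set (IrrCharacter N) := irrTransport (MulAut.conjNormal w⁻¹ : N ≃* N) '' e with hew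
      have hewU : ew ⊆ U w := by
        rintro _ ⟨ξ, hξ, rfl⟩
        refine ⟨1, K.one_mem, ?_⟩
        show irrComp (MulAut.conjNormal (1 * w)) (irrComp (MulAut.conjNormal w⁻¹) ξ) ∈ e
        rwa [one_mul, irrComp_conj_mul, inv_mul_cancel, irrComp_conj_one]
      have hβw : (fun y => subgroupBlockCoeff N e (w⁻¹ * y * w)) = extendByZero N (blockCoeff ew) := funext fun y => by
        rw [subgroupBlockCoeff_eq]
        by_cases hy : y ∈ N
        · have hy' : w⁻¹ * y * w ∈ N := by simpa using Subgroup.Normal.conj_mem (inferInstance : N.Normal) y hy w⁻¹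
          rw [extendByZero_mem _ _ hy, extendByZero_mem _ _ hy', hew, blockCoeff_transport]
          exact congrArg _ (Subtype.ext (by simp [MulAut.conjNormal_apply]))
        · rw [extendByZero_not_mem _ _ hy, extendByZero_not_mem]
          exact fun h => hy (by simpa [mul_assoc] using Subgroup.Normal.conj_mem (inferInstance : N.Normal) _ h w)
      have habs : conv (blockCoeff (U w)) (blockCoeff ew) = blockCoeff ew := by
        have hc := isClassFunction_blockCoeff (U w)
        have hc' := isClassFunction_blockCoeff ew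
        rw [classFun_eq_sum_idem (isClassFunction_conv hc hc')]
        conv_rhs => rw [classFun_eq_sum_idem hc']
        refine Finset.sum_congr rfl fun η _ => ?_
        rw [lam_conv η.2 hc hc', lam_blockCoeff, lam_blockCoeff]
        by_cases hη : η ∈ ew
        · rw [if_pos (hewU hη), one_mul]
        · rw [if_neg hη, mul_zero]
      rw [hβw, ← habs, ← extendByZero_conv, ← conv_assoc]
      intro y
      rw [Pi.zero_apply, sub_zero]
      refine memLI_sum hP _ _ fun x _ => memLI_mul_right hP ?_ ?_
      · refine memLI_congr hP (hcase x) ?_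
        rw [Pi.smul_apply, smul_eq_mul]
        exact memLI_mul_right hP h0 (memLR_sbc hM hf x)
      · by_cases hy : x⁻¹ * y ∈ N
        · rw [extendByZero_mem _ _ hy, hew, blockCoeff_transport]; exact memLR_blockCoeff hM he _
        · rw [extendByZero_not_mem _ _ hy]; exact memLR_zero hP
    · refine hcase.trans hP fun y => ?_
      rw [Pi.smul_apply, smul_eq_mul, ← sub_one_mul]
      exact memLI_mul_right hP h1 (memLR_sbc hM hf y)
  have hU1 := key 1 (by simpa using h1)
  have hUz := key z h2
  obtain ⟨η, ⟨k, hk, hη⟩, k', hk', hη'⟩ : ∃ η, η ∈ U 1 ∧ η ∈ U z := by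
    by_contra hno
    push Not at hno
    have hzero : conv (E 1) (E z) = 0 := by
      simp only [E]
      rw [extendByZero_conv]
      funext y
      have : conv (blockCoeff (U 1)) (blockCoeff (U z)) = 0 := by
        have hc := isClassFunction_blockCoeff (U 1)
        have hc' := isClassFunction_blockCoeff (U z)
        rw [classFun_eq_sum_idem (isClassFunction_conv hc hc')]
        refine Finset.sum_eq_zero fun η _ => ?_
        rw [lam_conv η.2 hc hc', lam_blockCoeff, lam_blockCoeff]
        by_cases hη : η ∈ U 1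
        · rw [if_neg (hno η hη), mul_zero, zero_smul]
        · rw [if_neg hη, zero_mul, zero_smul]
      rw [this]
      by_cases hy : y ∈ N
      · rw [extendByZero_mem _ _ hy]; rfl
      · rw [extendByZero_not_mem _ _ hy]; rfl
    refine sbc_not_ceq_zero hM hf ?_
    intro y
    have h3 : MemLocalIdeal M (conv (conv βf (E 1)) (E z) y - conv βf (E z) y) := by
      simp only [conv, ← Finset.sum_sub_distrib, ← sub_mul]
      exact memLI_sum hP _ _ fun x _ => memLI_mul_right hP (hU1 x) (hER z _)
    rw [conv_assoc, hzero, conv_zero_right, Pi.zero_apply] at h3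
    rw [Pi.zero_apply, sub_zero]
    exact memLI_congr hP (memLI_symm hP (hUz y)) (by simpa using memLI_neg hP h3)
  rw [mul_one] at hη
  refine ⟨k⁻¹ * k', K.mul_mem (K.inv_mem hk) hk', _, hη, ?_⟩
  rw [irrComp_conj_mul, show k * (k⁻¹ * k' * z) = k' * z by group]
  exact hη'

theorem exists_stab_of_cover [D.Normal] (hM : IsPModular p M) (he : IsPBlock M e) {Q : Subgroup G}
    (hQD : Q ≤ D) {f : Set (IrrCharacter (Subgroup.centralizer (Q : Set G)))} (hf : IsPBlock M f) {z : G}
    (h1 : ¬ CEq M (conv (subgroupBlockCoeff (Subgroup.centralizer (Q : Set G)) f)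
      (subgroupBlockCoeff (Subgroup.centralizer (D : Set G)) e)) 0)
    (h2 : ¬ CEq M (conv (subgroupBlockCoeff (Subgroup.centralizer (Q : Set G)) f)
      (fun y => subgroupBlockCoeff (Subgroup.centralizer (D : Set G)) e (z⁻¹ * y * z))) 0) :
    ∃ k ∈ Subgroup.centralizer (Q : Set G), StabilizesBlock (Subgroup.centralizer (D : Set G)) e (k * z) := by
  haveI : (Subgroup.centralizer (D : Set G)).Normal := Subgroup.normal_centralizer
  haveI := Fintype.ofFinite (Subgroup.centralizer (D : Set G))
  haveI := Fintype.ofFinite (Subgroup.centralizer (Q : Set G))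
  obtain ⟨k, hk, ξ, hξ, hξ'⟩ := exists_conj_of_cover hM _ _ (centralizer_antitone hQD) he hf h1 h2
  exact ⟨k, hk, stab_of_mem hM he hξ hξ'⟩

attribute [local irreducible] conjBlock blockCoeff subgroupBlockCoeff conv CEq

/-- Nilpotency read off the stabilizer of a maximal pair on a normal defect group. -/
theorem nilpotent_of_top [D.Normal] (hM : IsPModular p M) {B : Set (IrrCharacter G)}
    (hmax : IsMaximalBrauerPair p M B D e)
    (htriv : ∀ x : G, StabilizesBlock (Subgroup.centralizer (D : Set G)) e x → ¬ p ∣ orderOf x →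
      x ∈ Subgroup.centralizer (D : Set G)) : IsNilpotentBlock p M B := by
  haveI := Fact.mk hM.1
  have hP := pmod_prime hM
  have he := hmax.1.1.2
  refine ⟨hmax.1.2.1, fun Q0 e0 hQ0 x hx hst hreg => ?_⟩
  obtain ⟨y, hy⟩ := pairs_conj_into_maximal hM hmax hQ0
  have hfix : conjIdx x (⟨Q0, e0⟩ : BrauerPairIdx G) = ⟨Q0, e0⟩ :=
    (conjIdx_eq_self_iff hP hQ0.1.2 x).mpr ⟨hx, hst⟩
  set Q := Q0.map (MulAut.conj y).toMonoidHom with hQ
  set z := y * x * y⁻¹ with hz
  have hzf : conjIdx z (⟨Q, conjBlock Q0 y e0⟩ : BrauerPairIdx G) = ⟨Q, conjBlock Q0 y e0⟩ := by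
    have h1 := conjIdx_mul hP z y ⟨Q0, e0⟩ hQ0.1.2
    rw [show z * y = y * x by rw [hz]; group, ← conjIdx_mul hP y x ⟨Q0, e0⟩ hQ0.1.2, hfix] at h1
    exact h1
  have hzN : z ∈ Subgroup.normalizer (Q : Set G) :=
    ((conjIdx_eq_self_iff hP (isPBlock_conjBlock y hQ0.1.2) z).mp hzf).1
  have hQD : Q ≤ D := subpair_le hy
  have hy' : Relation.ReflTransGen (NormalSubpairRel p M) (⟨Q, conjBlock Q0 y e0⟩ : BrauerPairIdx G)
      (conjIdx z (⟨D, e⟩ : BrauerPairIdx G)) := by
    have h := subpair_rel_conj hM z (a := (⟨Q, conjBlock Q0 y e0⟩ : BrauerPairIdx G)) (b := ⟨D, e⟩) hy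
    rwa [hzf] at h
  have hfe : IsPBlock M (conjBlock Q0 y e0) := isPBlock_conjBlock y hQ0.1.2
  have c1 : ¬ CEq M (conv (subgroupBlockCoeff (Subgroup.centralizer (Q : Set G)) (conjBlock Q0 y e0))
      (subgroupBlockCoeff (Subgroup.centralizer (D : Set G)) e)) 0 :=
    cover_of_rel hM (a := (⟨Q, conjBlock Q0 y e0⟩ : BrauerPairIdx G)) (b := (⟨D, e⟩ : BrauerPairIdx G)) he hy
  have c2 : ¬ CEq M (conv (subgroupBlockCoeff (Subgroup.centralizer (Q : Set G)) (conjBlock Q0 y e0))
      (subgroupBlockCoeff (Subgroup.centralizer ((D.map (MulAut.conj z).toMonoidHom : Subgroup G) : Set G))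
        (conjBlock D z e))) 0 :=
    cover_of_rel hM (a := (⟨Q, conjBlock Q0 y e0⟩ : BrauerPairIdx G))
      (b := conjIdx z (⟨D, e⟩ : BrauerPairIdx G)) (isPBlock_conjBlock z he) hy'
  have e3 : (fun w : G => subgroupBlockCoeff (Subgroup.centralizer (D : Set G)) e (z⁻¹ * w * z)) =
      subgroupBlockCoeff (Subgroup.centralizer ((D.map (MulAut.conj z).toMonoidHom : Subgroup G) : Set G))
        (conjBlock D z e) := by
    funext w
    have h3 := subgroupBlockCoeff_conj D z e (z⁻¹ * w * z)
    rw [show z * (z⁻¹ * w * z) * z⁻¹ = w by group] at h3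
    exact h3.symm
  obtain ⟨k, hk, hkz⟩ := exists_stab_of_cover hM he hQD hfe (z := z) c1 (by rw [e3]; exact c2)
  set w := k * z with hw
  have hwN : w ∈ Subgroup.normalizer (D : Set G) := by rw [Subgroup.normalizer_eq_top]; trivial
  have hwT : w ∈ pairStab hP he := (mem_pairStab hP he).mpr ⟨hwN, hkz⟩
  have hpel := (S4828.result p M hM D e hmax.1.1).mp ⟨B, hmax⟩
  obtain ⟨θ, -, -, -, hpel⟩ := hpel
  obtain ⟨a, m, -, hco, -, hpow, hregw⟩ := exists_exponents hM.1 w
  have hm : w ^ m ∈ D ⊔ Subgroup.centralizer (D : Set G) := by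
    have h := (mem_pairStab hP he).mp (Subgroup.pow_mem _ hwT m)
    exact hpel _ h.1 h.2 hpow
  have ha : w ^ p ^ a ∈ D ⊔ Subgroup.centralizer (D : Set G) := by
    have h := (mem_pairStab hP he).mp (Subgroup.pow_mem _ hwT (p ^ a))
    exact Subgroup.mem_sup_right (htriv _ h.2 hregw)
  have hwDC := mem_of_pow_mem hco ha hm
  have h1 : w ∈ ((D ⊔ Subgroup.centralizer (D : Set G) : Subgroup G) : Set G) := hwDC
  rw [Subgroup.normal_mul] at h1
  obtain ⟨d, hd, c, hc, hdc⟩ := Set.mem_mul.mp h1
  have hz' : z ∈ Subgroup.centralizer (Q : Set G) := by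
    refine MinimalSquare.centralizes_of_classes hM.1 hmax.1.1.1 hQD hzN ?_ fun q hq => ⟨d, hd, ?_⟩
    · rw [hz, ← MulAut.conj_apply, MulEquiv.orderOf_eq]; exact hreg
    · have hu : z * q * z⁻¹ ∈ Q := (Subgroup.mem_normalizer_iff.mp hzN q).mp hq
      have hzk : z = k⁻¹ * (d * c) := by rw [hdc, hw, inv_mul_cancel_left]
      have hcq : c * q * c⁻¹ = q := by rw [← hc q (hQD hq), mul_inv_cancel_right]
      have hku : k * (z * q * z⁻¹) * k⁻¹ = z * q * z⁻¹ := by rw [← hk _ hu, mul_inv_cancel_right]
      calc z * q * z⁻¹ = k * (z * q * z⁻¹) * k⁻¹ := hku.symm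
        _ = d * (c * q * c⁻¹) * d⁻¹ := by rw [hzk]; group
        _ = _ := by rw [hcq]
  exact (mem_centralizer_map (Q := Q0) y (c := x)).mpr hz'

end Cfsg.Agent.Char.EqualDeg
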