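import Cfsg.Agent.Lib.Char.EqualDegrees.Core
import Cfsg.Agent.Lib.Char.EqualDegrees.Fusion
import Cfsg.Agent.Lib.Char.StarNilpotent
import Cfsg.Agent.Lib.Char.NormalDefectHeights
import Cfsg.Agent.Lib.Char.DegreeSplit
import Cfsg.Agent.Lib.Char.RelGlaubermanCentral
import Cfsg.Agent.Lib.Solv.PGroupPhi
import Cfsg.Agent.Lib.Solv.Coprime

/-!
# Equal height zero degrees in a block with normal defect group

Such a block is nilpotent, and conversely.
-/

set_option autoImplicit false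
set_option linter.unusedSectionVars false
set_option linter.style.haveILetI false

namespace Cfsg.Agent.Char.EqualDeg

open Cfsg IdemAlg
open IdemSub (push push_gen trC_push)

universe u

variable {G : Type u} [Group G] [Fintype G] {M : Ideal AlgInt} {p : ℕ} {B : Set (IrrCharacter G)} {D : Subgroup G}

theorem equal_of_nilpotent (hM : IsPModular p M) (hnil : IsNilpotentBlock p M B) (hD : IsDefectGroup p M B D) :
    ∃ d : ℕ, ∀ χ : IrrCharacter G, χ ∈ B → blockHeight p B (χ : G → ℂ) = 0 → charDegree (χ : G → ℂ) = d := by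
  classical
  haveI := Fact.mk hM.1
  haveI := Fintype.ofFinite D
  obtain ⟨e, he⟩ := exists_pair_of_le_defect hM hnil.1 hD le_rfl
  have hmax := maximal_of_defect hM hD he
  obtain ⟨χ, hχ, h0⟩ := exists_height_zero (p := p) (block_nonempty (pmod_prime hM) hnil.1)
  refine ⟨deg (χ : G → ℂ), fun ψ hψ hψ0 => ?_⟩
  rw [charDegree_eq_deg]
  obtain ⟨μ, hμ⟩ := Star.exists_preimage hM hmax hnil hχ h0 hψ
  obtain ⟨ψ', -, e1, hh⟩ := Star.exists_image hM hmax hnil hχ h0 μ
  obtain rfl : ψ' = ψ := Subtype.ext (e1.symm.trans hμ)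
  rw [hψ0, charDegree_eq_deg] at hh
  have hμ1 : deg (μ : D → ℂ) = 1 := by
    obtain ⟨n, hn⟩ := IsPGroup.iff_card.mp hmax.1.1.1
    obtain ⟨j, -, hj⟩ := (Nat.dvd_prime_pow hM.1).1 (hn ▸ deg_dvd_card μ.2)
    rw [hj, Nat.factorization_pow_self hM.1] at hh
    rw [hj, ← hh, pow_zero]
  have h1 := congrFun e1 1
  rw [Star.theta_degree hM hmax (Star.stable_clsFun hM hmax hnil (isClassFunction_character (irr_isCharacter μ.2))) hχ,
    show (1 : G) = ((1 : D) : G) from rfl, Star.clsFun_mem, char_one_eq_deg (irr_isCharacter μ.2), hμ1,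
    Nat.cast_one, one_mul] at h1
  rw [show ((1 : D) : G) = (1 : G) from rfl, char_one_eq_deg (irr_isCharacter χ.2),
    char_one_eq_deg (irr_isCharacter ψ'.2)] at h1
  exact_mod_cast h1.symm

/-- A regular element acting trivially on the Frattini quotient centralizes. -/
theorem centralizes_of_phi [Fact p.Prime] [D.Normal] (hDp : IsPGroup p D) {x : G} (hreg : ¬ p ∣ orderOf x)
    (h : ∀ d ∈ D, d⁻¹ * (x * d * x⁻¹) ∈ (frattini D).map D.subtype) :
    x ∈ Subgroup.centralizer (D : Set G) := by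
  classical
  haveI := hDp.isNilpotent
  haveI hN : ((frattini D).map D.subtype).Normal := inferInstance
  set N := (frattini D).map D.subtype with hNdef
  have hND : N ≤ D := Subgroup.map_subtype_le _
  set A := Subgroup.zpowers x
  have hall : ∀ a ∈ A, ∀ d ∈ D, d⁻¹ * (a * d * a⁻¹) ∈ N := by
    intro a ha
    obtain ⟨n, -, rfl⟩ := Finset.mem_image.mp ((mem_zpowers_iff_mem_range_orderOf).mp ha)
    induction n with
    | zero => intro d _; simp
    | succ n ih =>
      intro d hd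
      have e : d⁻¹ * (x ^ (n + 1) * d * (x ^ (n + 1))⁻¹) =
          (d⁻¹ * (x * d * x⁻¹)) * (x * (d⁻¹ * (x ^ n * d * (x ^ n)⁻¹)) * x⁻¹) := by
        rw [pow_succ']; group
      rw [e]
      exact mul_mem (h d hd) (hN.conj_mem _ (ih (Subgroup.pow_mem _ (Subgroup.mem_zpowers x) _) d hd) x)
  have hAD : A ≤ Subgroup.normalizer (D : Set G) := by rw [Subgroup.normalizer_eq_top]; exact le_top
  have hAN : A ≤ Subgroup.normalizer (N : Set G) := by rw [Subgroup.normalizer_eq_top]; exact le_top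
  obtain ⟨n, hn⟩ := IsPGroup.iff_card.mp hDp
  have hco : (Nat.card A).Coprime (Nat.card D) := by
    rw [Nat.card_zpowers, hn]
    exact (((Fact.out : p.Prime).coprime_iff_not_dvd.mpr hreg).symm).pow_right n
  let H : Subgroup D := (Subgroup.centralizer (A : Set G)).subgroupOf D
  have htop : H ⊔ frattini D = ⊤ := by
    refine eq_top_iff.mpr fun d _ => ?_
    obtain ⟨c, hc, hcd⟩ := Solv.exists_fixed_in_coset' A D N hAD hco (Or.inl inferInstance) hND hAN d.2
      (fun a ha => hall a ha d d.2)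
    have h1 : d⁻¹ * (⟨c, hc.1⟩ : D) ∈ frattini D := by
      obtain ⟨y, hy, hye⟩ := Subgroup.mem_map.mp hcd
      rwa [show (d⁻¹ * ⟨c, hc.1⟩ : D) = y from Subtype.ext hye.symm]
    have h2 : (⟨c, hc.1⟩ : D) * (d⁻¹ * ⟨c, hc.1⟩)⁻¹ ∈ H ⊔ frattini D :=
      mul_mem (Subgroup.mem_sup_left hc.2) (inv_mem (Subgroup.mem_sup_right h1))
    simpa using h2
  have hH := frattini_nongenerating htop
  intro d hd
  have h3 : (⟨d, hd⟩ : D) ∈ H := hH ▸ Subgroup.mem_top _
  exact (h3 x (Subgroup.mem_zpowers x)).symm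

/-- Characters related along a surjection with central `p`-kernel share blocks. -/
theorem sameBlock_of_pullback (hM : IsPModular p M) {H K : Type u} [Group H] [Fintype H] [Group K] [Fintype K]
    (f : H →* K) (hf : Function.Surjective f) (hker : IsPGroup p f.ker)
    (hcen : ∀ z ∈ f.ker, ∀ h : H, h * z = z * h) {χ ψ χ' ψ' : _}
    (hχ : ∀ h, (χ' : IrrCharacter H).1 h = (χ : IrrCharacter K).1 (f h))
    (hψ : ∀ h, (ψ' : IrrCharacter H).1 h = (ψ : IrrCharacter K).1 (f h))
    (hs : SameBlock M (χ' : H → ℂ) (ψ' : H → ℂ)) : SameBlock M (χ : K → ℂ) (ψ : K → ℂ) := by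
  classical
  haveI := Fintype.ofFinite (H ⧸ f.ker)
  set e := QuotientGroup.quotientKerEquivOfSurjective f hf
  have key : ∀ (φ : IrrCharacter K) (φ' : IrrCharacter H), (∀ h, (φ' : H → ℂ) h = (φ : K → ℂ) (f h)) →
      inflChar f.ker (irrTransport e φ) = φ' := fun φ φ' hφ => Subtype.ext (funext fun h => by
    show (irrTransport e φ : H ⧸ f.ker → ℂ) (h : H ⧸ f.ker) = _
    rw [irrTransport_apply, hφ]
    rfl)
  rw [← key χ χ' hχ, ← key ψ ψ' hψ] at hs
  have h1 := sameBlock_of_inflate (N := f.ker) hM (fun g hg => Or.inl (by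
    rw [clsRatio_eq_one hM.1 hker hg (fun z hz => (hcen z hz g).symm)]
    exact hM.1.not_dvd_one)) hs
  have h2 := sameBlock_transport (M := M) e.symm h1
  have e2 : ∀ φ : IrrCharacter K, irrTransport e.symm (irrTransport e φ) = φ := fun φ =>
    Subtype.ext (funext fun x => by rw [irrTransport_apply, irrTransport_apply, MulEquiv.apply_symm_apply])
  rwa [e2, e2] at h2

theorem blockCoeff_push (hM : IsPModular p M) (hB : IsPBlock M B) (N : Subgroup G) [N.Normal] [Fintype (G ⧸ N)] :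
    ∀ x, MemLocalRing M (blockCoeff {χ : IrrCharacter (G ⧸ N) | inflChar N χ ∈ B} x) := by
  classical
  have hcen : ∀ y, unionElt (pmod_prime hM) (memLR_blockCoeff hM hB) * y =
      y * unionElt (pmod_prime hM) (memLR_blockCoeff hM hB) := unionElt_comm _
  have h : co (push (QuotientGroup.mk' N) (unionElt (pmod_prime hM) (memLR_blockCoeff hM hB))) =
      blockCoeff {χ : IrrCharacter (G ⧸ N) | inflChar N χ ∈ B} := by
    rw [classFun_eq_sum_idem (classFun_push N _ hcen),
      classFun_eq_sum_idem (isClassFunction_blockCoeff {χ : IrrCharacter (G ⧸ N) | inflChar N χ ∈ B})]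
    refine Finset.sum_congr rfl fun χ _ => ?_
    rw [lam_co_push, co_unionElt, lam_blockCoeff, lam_blockCoeff]
    rfl
  intro x
  rw [← h]
  exact memLR_co _ x

set_option maxHeartbeats 800000 in
theorem nilpotent_of_equal [D.Normal] (hM : IsPModular p M) (hB : IsPBlock M B) (hD : IsDefectGroup p M B D)
    {d : ℕ} (hd : ∀ χ : IrrCharacter G, χ ∈ B → blockHeight p B (χ : G → ℂ) = 0 → charDegree (χ : G → ℂ) = d) :
    IsNilpotentBlock p M B := by
  classical
  haveI := Fact.mk hM.1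
  have hP := pmod_prime hM
  obtain ⟨g0, -, hDS⟩ := (isDefectGroup_iff B D).mp hD
  have hDp : IsPGroup p D := hDS.isPGroup
  haveI := hDp.isNilpotent
  haveI hNn : ((frattini D).map D.subtype).Normal := inferInstance
  set N := (frattini D).map D.subtype with hNdef
  have hND : N ≤ D := Subgroup.map_subtype_le _
  haveI := Fintype.ofFinite (G ⧸ N)
  set q1 : G →* G ⧸ N := QuotientGroup.mk' N with hq1
  set V : Subgroup (G ⧸ N) := D.map q1 with hVdef
  haveI hVn : V.Normal := Subgroup.Normal.map inferInstance q1 (QuotientGroup.mk'_surjective N)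
  haveI := Fintype.ofFinite ((G ⧸ N) ⧸ V)
  set π2 : G →* (G ⧸ N) ⧸ V := (QuotientGroup.mk' V).comp q1 with hπ2
  have hπ2s : Function.Surjective π2 :=
    (QuotientGroup.mk'_surjective V).comp (QuotientGroup.mk'_surjective N)
  have hπ2k : ∀ g, π2 g = 1 ↔ g ∈ D := by
    intro g
    rw [hπ2, MonoidHom.comp_apply, QuotientGroup.mk'_apply, QuotientGroup.eq_one_iff, hVdef, Subgroup.mem_map]
    refine ⟨fun ⟨y, hy, hye⟩ => ?_, fun h => ⟨g, h, rfl⟩⟩
    have h1 : y⁻¹ * g ∈ N := QuotientGroup.eq.mp hye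
    simpa using mul_mem hy (hND h1)
  have hcardQ : Nat.card ((G ⧸ N) ⧸ V) = D.index := by
    have hk : π2.ker = D := Subgroup.ext fun g => by rw [MonoidHom.mem_ker, hπ2k]
    rw [← hk, Subgroup.index_ker, MonoidHom.range_eq_top.2 hπ2s, Subgroup.card_top]
  have hVp : IsPGroup p V := hDp.map q1
  have hVab : ∀ a ∈ V, ∀ b ∈ V, a * b = b * a := by
    rintro a ⟨a, ha, rfl⟩ b ⟨b, hb, rfl⟩
    rw [← map_mul, ← map_mul]
    refine QuotientGroup.eq.mpr ?_
    have h := Solv.commutatorElement_mem_frattini hDp (⟨b, hb⟩ : D)⁻¹ (⟨a, ha⟩ : D)⁻¹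
    refine ⟨_, h, ?_⟩
    simp [commutatorElement_def, mul_assoc]
  -- the characters trivial on the Frattini subgroup
  set S : Set (IrrCharacter (G ⧸ N)) := {χ | inflChar N χ ∈ B} with hSdef
  have hSint := blockCoeff_push hM hB N
  have hinfl : ∀ χ : IrrCharacter (G ⧸ N), deg (inflChar N χ : G → ℂ) = deg (χ : G ⧸ N → ℂ) := fun χ => by
    refine Nat.cast_injective (R := ℂ) ?_
    rw [← char_one_eq_deg (irr_isCharacter (inflChar N χ).2), ← char_one_eq_deg (irr_isCharacter χ.2)]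
    rfl
  have hdata : ∀ χ ∈ S, deg (χ : G ⧸ N → ℂ) = d ∧
      (deg (χ : G ⧸ N → ℂ)).factorization p = D.index.factorization p := by
    intro χ hχ
    have hχB : inflChar N χ ∈ B := hχ
    have h1 := dmin_le (p := p) hχB
    have h2 : (deg (χ : G ⧸ N → ℂ)).factorization p ≤ D.index.factorization p := by
      rw [← hcardQ, ← Subgroup.index_eq_card]
      exact (Nat.factorization_le_iff_dvd (deg_pos χ.2).ne' Subgroup.index_ne_zero_of_finite).2
        (deg_dvd_index_abelian_normal χ.2 V fun a b => Subtype.ext (hVab a a.2 b b.2)) p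
    have h3 := congrFun (congrArg DFunLike.coe (congrArg Nat.factorization D.card_mul_index)) p
    have h4 := dmin_add_defect (p := p) (block_nonempty hP hB)
    rw [Nat.factorization_mul Nat.card_pos.ne' Subgroup.index_ne_zero_of_finite,
      Finsupp.add_apply, card_defectGroup hM hB hD, hM.1.factorization_pow, Finsupp.single_eq_same] at h3
    rw [dexp, hinfl] at h1
    have h5 : (deg (χ : G ⧸ N → ℂ)).factorization p = D.index.factorization p := by omega
    refine ⟨?_, h5⟩
    have h0 : blockHeight p B (inflChar N χ : G → ℂ) = 0 := by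
      rw [blockHeight_eq_zero_iff hχB, dexp, hinfl]
      omega
    have := hd _ hχB h0
    rwa [charDegree_eq_deg, hinfl] at this
  -- a character trivial on `D`
  obtain ⟨χ0', hχ0'⟩ := block_nonempty hP hB
  obtain ⟨χB, hs, htriv⟩ := exists_sameBlock_trivial_on hM D hDp χ0'
  have hχB : χB ∈ B := (mem_block_iff hP hB hχ0' χB).mpr hs
  obtain ⟨φ1, hφ1⟩ := exists_quotient_char N χB fun u hu => htriv u (hND hu)
  obtain ⟨χ0, hχ0⟩ := exists_quotient_char V φ1 fun u hu => by
    obtain ⟨y, hy, rfl⟩ := hu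
    rw [hq1, QuotientGroup.mk'_apply, hφ1, ← QuotientGroup.mk_one, hφ1]
    exact htriv y hy
  have hφ1S : φ1 ∈ S := by
    show inflChar N φ1 ∈ B
    rw [show inflChar N φ1 = χB from Subtype.ext (funext hφ1)]
    exact hχB
  have hχ0S : inflChar V χ0 ∈ S := by
    rw [show inflChar V χ0 = φ1 from Subtype.ext (funext hχ0)]
    exact hφ1S
  have hdQ : d.factorization p = (Nat.card ((G ⧸ N) ⧸ V)).factorization p := by
    rw [hcardQ, ← (hdata φ1 hφ1S).1, (hdata φ1 hφ1S).2]
  have hdeg0 : deg (χ0 : (G ⧸ N) ⧸ V → ℂ) = d := by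
    rw [← (hdata φ1 hφ1S).1]
    refine Nat.cast_injective (R := ℂ) ?_
    rw [← char_one_eq_deg (irr_isCharacter φ1.2), ← char_one_eq_deg (irr_isCharacter χ0.2)]
    exact hχ0 1
  -- the centralizer
  set C0 := Subgroup.centralizer (D : Set G) with hC0
  haveI hC0n : C0.Normal := Subgroup.normal_centralizer
  haveI := Fintype.ofFinite C0
  set C : Subgroup (G ⧸ N) := (D ⊔ C0).map q1 with hCdef
  haveI hCn : C.Normal := Subgroup.Normal.map inferInstance q1 (QuotientGroup.mk'_surjective N)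
  set C1 := C.map (QuotientGroup.mk' V) with hC1def
  haveI hC1n : C1.Normal := Subgroup.Normal.map inferInstance _ (QuotientGroup.mk'_surjective V)
  haveI := Fintype.ofFinite C1
  have hπC : ∀ c ∈ D ⊔ C0, π2 c ∈ C1 := fun c hc => ⟨q1 c, ⟨c, hc, rfl⟩, rfl⟩
  let f : C0 →* C1 := (π2.comp C0.subtype).codRestrict C1 fun c => hπC c (Subgroup.mem_sup_right c.2)
  have hf : Function.Surjective f := by
    rintro ⟨_, _, ⟨k, hk, rfl⟩, rfl⟩
    have hk' : k ∈ ((D ⊔ C0 : Subgroup G) : Set G) := hk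
    rw [Subgroup.normal_mul] at hk'
    obtain ⟨a, ha, c, hc, rfl⟩ := Set.mem_mul.mp hk'
    refine ⟨⟨c, hc⟩, Subtype.ext ?_⟩
    show π2 c = π2 (a * c)
    rw [map_mul, (hπ2k a).mpr ha, one_mul]
  have hkerD : ∀ z ∈ f.ker, (z : G) ∈ D := fun z hz => (hπ2k _).mp (congrArg Subtype.val hz)
  have hker : IsPGroup p f.ker := by
    intro z
    obtain ⟨k, hk⟩ := hDp ⟨((z : C0) : G), hkerD z z.2⟩
    exact ⟨k, Subtype.ext (Subtype.ext (by simpa using congrArg Subtype.val hk))⟩
  have hcen : ∀ z ∈ f.ker, ∀ h : C0, h * z = z * h := fun z hz h =>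
    Subtype.ext (h.2 _ (hkerD z hz)).symm
  -- the character of the centralizer
  obtain ⟨θ, hθ⟩ := exists_constituent (N := C1) χ0
  have hθdef : (deg (θ : C1 → ℂ)).factorization p = (Nat.card C1).factorization p := by
    refine le_antisymm ((Nat.factorization_le_iff_dvd (deg_pos θ.2).ne' Nat.card_pos.ne').2 (deg_dvd_card θ.2) p) ?_
    have h1 := (Nat.factorization_le_iff_dvd (deg_pos χ0.2).ne'
      (mul_ne_zero Subgroup.index_ne_zero_of_finite (deg_pos θ.2).ne')).2
      (DegreeSplit.deg_dvd_index_mul C1 χ0 θ hθ) p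
    rw [hdeg0, hdQ, ← C1.card_mul_index, Nat.factorization_mul Nat.card_pos.ne' Subgroup.index_ne_zero_of_finite,
      Nat.factorization_mul Subgroup.index_ne_zero_of_finite (deg_pos θ.2).ne', Finsupp.add_apply,
      Finsupp.add_apply] at h1
    omega
  let θt : IrrCharacter C0 := ⟨fun c => (θ : C1 → ℂ) (f c), isIrr_comp_surjective f hf θ.2⟩
  set e := blockOf M (θt : C0 → ℂ) with hedef
  have he : IsPBlock M e := isPBlock_blockOf M θt
  have hθe : θt ∈ e := self_mem_blockOf hP θt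
  -- the pair
  have hmax : IsMaximalBrauerPair p M B D e := by
    refine maximal_of_defect hM hD ⟨⟨hDp, he⟩, hB, fun ξ hξ => ?_⟩
    rw [brauerOmega_eq]
    have hb := isIntClassFun_blockCoeff hM hB
    have hgood := isGoodFun_of_classFun (M := M) D hb
    refine memLI_trans hP (lam_congr hP ξ.2 θt.2 (block_sameBlock hP he hξ hθe) hgood.tr.1 hgood.tr.2) ?_
    have hinv : GInvariant C0 (fun c : C0 => blockCoeff B (c : G)) := fun g n => by
      show blockCoeff B (MulAut.conjNormal g n : G) = _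
      rw [MulAut.conjNormal_apply, hb.1]
    have hext : extendByZero C0 (fun c : C0 => blockCoeff B (c : G)) = blockCoeff B := funext fun x => by
      by_cases hx : x ∈ C0
      · rw [extendByZero_mem _ _ hx]
      · rw [extendByZero_not_mem _ _ hx, blockCoeff_eq_zero_of_not_centralizing hM D hDp hB hx]
    have hcon : classInner (fun n : C0 => (χB : G → ℂ) n) (θt : C0 → ℂ) ≠ 0 := by
      have e1 : (fun n : C0 => (χB : G → ℂ) n) = fun n => (fun x : C1 => (χ0 : (G ⧸ N) ⧸ V → ℂ) x) (f n) :=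
        funext fun n => by
          show (χB : G → ℂ) n = (χ0 : (G ⧸ N) ⧸ V → ℂ) (π2 n)
          rw [← hφ1, ← hχ0]
          rfl
      rw [e1, show (θt : C0 → ℂ) = fun n => (θ : C1 → ℂ) (f n) from rfl,
        (classInner_comp_surjective f hf (a := fun x : C1 => (χ0 : (G ⧸ N) ⧸ V → ℂ) x)
          (isCharacter_comp C1.subtype (irr_isCharacter χ0.2))).1 θ]
      exact hθ
    have h1 := lam_extend_of_constituent hcon hinv
    rw [hext, lam_blockCoeff, if_pos hχB] at h1
    rw [show tr D (blockCoeff B) = fun c : C0 => blockCoeff B (c : G) from rfl, ← h1, sub_self]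
    exact memLI_zero hP
  obtain ⟨-, -, -, -, hpel⟩ := (S4828.result p M hM D e hmax.1.1).mp ⟨B, hmax⟩
  refine nilpotent_of_top hM hmax fun x hx hreg => ?_
  by_contra hxC
  -- stabilizers of the character stabilize the block
  have hconjval : ∀ (g : G) (c : C0),
      f (MulAut.conjNormal g c) = MulAut.conjNormal (π2 g) (f c) := fun g c => Subtype.ext (by
    show π2 ((MulAut.conjNormal g c : C0) : G) = _
    rw [MulAut.conjNormal_apply, MulAut.conjNormal_apply, map_mul, map_mul, map_inv]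
    rfl)
  have hfix_stab : ∀ g : G, irrComp (MulAut.conjNormal (π2 g)) θ = θ →
      StabilizesBlock C0 e g := by
    intro g hg
    refine stab_of_mem hM he hθe ?_
    have : irrComp (MulAut.conjNormal g) θt = θt := Subtype.ext (funext fun c => by
      show (θ : C1 → ℂ) (f (MulAut.conjNormal g c)) = (θ : C1 → ℂ) (f c)
      rw [hconjval, ← irrComp_apply, hg])
    rw [this]
    exact hθe
  have htfix : irrComp (MulAut.conjNormal (π2 x)) θ = θ := by
    obtain ⟨χ', hχ', hc⟩ := hx.2 θt hθe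
    set θ2 := irrComp (MulAut.conjNormal (π2 x)⁻¹) θ with hθ2
    have hval : ∀ h : C0, (χ' : C0 → ℂ) h = (θ2 : C1 → ℂ) (f h) := fun h => by
      rw [hc (MulAut.conjNormal x⁻¹ h) h (by rw [MulAut.conjNormal_apply]; group), hθ2, irrComp_apply,
        ← map_inv, ← hconjval]
    have h1 := sameBlock_of_pullback hM f hf hker hcen (χ := θ) (ψ := θ2) (χ' := θt) (ψ' := χ') (fun h => rfl) hval
      (block_sameBlock hP he hθe hχ')
    have h2 : θ2 ∈ blockOf M (θ : C1 → ℂ) := h1
    rw [(singleton_iff_dexp hM θ).mpr (by rw [dexp, hθdef])] at h2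
    have h3 := congrArg (irrComp (MulAut.conjNormal (π2 x))) (Set.mem_singleton_iff.mp h2)
    rw [hθ2, irrComp_conj_mul, inv_mul_cancel, irrComp_conj_one] at h3
    exact h3.symm
  obtain ⟨v, hv, hvN⟩ : ∃ v ∈ D, v⁻¹ * (x * v * x⁻¹) ∉ N := by
    by_contra hno
    push Not at hno
    exact hxC (centralizes_of_phi hDp hreg hno)
  have hvD : v⁻¹ * (x * v * x⁻¹) ∈ D := mul_mem (inv_mem hv) (Subgroup.Normal.conj_mem inferInstance v hv x)
  have hu : (⟨_, hvD⟩ : D) ∉ frattini D := fun h => hvN ⟨_, h, rfl⟩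
  obtain ⟨Mx, hMx, huMx⟩ : ∃ Mx : Subgroup D, IsCoatom Mx ∧ (⟨_, hvD⟩ : D) ∉ Mx := by
    by_contra hno
    push Not at hno
    refine hu ?_
    simp only [frattini, Order.radical, Subgroup.mem_iInf]
    exact hno
  haveI hMxn : Mx.Normal := Solv.coatom_normal hDp hMx
  let eM : D ⧸ Mx ≃* Multiplicative (ZMod p) := mulEquivOfPrimeCardEq (p := p)
    (by rw [← Subgroup.index_eq_card, Solv.coatom_index hDp hMx]) (by rw [Nat.card_congr Multiplicative.toAdd, Nat.card_zmod])
  let ψ : D → ZMod p := fun a => Multiplicative.toAdd (eM (a : D ⧸ Mx))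
  have hψ : ∀ a b, ψ (a * b) = ψ a + ψ b := fun a b => by
    simp only [ψ, QuotientGroup.mk_mul, map_mul, toAdd_mul]
  have hψN : ∀ a : D, (a : G) ∈ N → ψ a = 0 := by
    rintro a ⟨y, hy, hye⟩
    obtain rfl : y = a := Subtype.ext hye
    have : (y : D ⧸ Mx) = 1 := (QuotientGroup.eq_one_iff y).mpr (frattini_le_coatom hMx hy)
    simp only [ψ, this, map_one, toAdd_one]
  let φ : G ⧸ N → ZMod p := fun y => if h : ∃ a : D, q1 (a : G) = y then ψ h.choose else 0
  have hφval : ∀ a : D, φ (q1 (a : G)) = ψ a := by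
    intro a
    have h : ∃ b : D, q1 (b : G) = q1 (a : G) := ⟨a, rfl⟩
    simp only [φ, dif_pos h]
    have h1 := QuotientGroup.eq.mp h.choose_spec
    have h2 := hψ h.choose (h.choose⁻¹ * a)
    rw [mul_inv_cancel_left, hψN (h.choose⁻¹ * a) h1, add_zero] at h2
    exact h2.symm
  have hφ : AddOn V φ := by
    rintro a ⟨a, ha, rfl⟩ b ⟨b, hb, rfl⟩
    rw [← map_mul, hφval ⟨a, ha⟩, hφval ⟨b, hb⟩, ← hψ, ← hφval]
    rfl
  have hφne : φ (q1 x * q1 v * (q1 x)⁻¹) ≠ φ (q1 v) := by
    rw [← map_mul, ← map_inv, ← map_mul, hφval ⟨x * v * x⁻¹, Subgroup.Normal.conj_mem inferInstance v hv x⟩,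
      hφval ⟨v, hv⟩]
    intro h
    refine huMx ((QuotientGroup.eq_one_iff _).mp (eM.injective ?_))
    rw [map_one]
    refine Multiplicative.toAdd.injective ?_
    show ψ _ = 0
    have h2 := hψ ⟨v, hv⟩ ⟨_, hvD⟩
    rw [show (⟨v, hv⟩ : D) * ⟨_, hvD⟩ = ⟨x * v * x⁻¹, Subgroup.Normal.conj_mem inferInstance v hv x⟩ from
      Subtype.ext (mul_inv_cancel_left _ _), h] at h2
    exact add_eq_left.mp h2.symm
  refine false_of_single_degree V C1 hM hVp hVab C ?_ hC1def hSint (fun χ hχ => (hdata χ hχ).1) hdQ θ hθdef χ0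
    hχ0S hθ ?_ (q1 x) htfix φ hφ ⟨v, hv, rfl⟩ hφne
  · rintro _ ⟨k, hk, rfl⟩ _ ⟨a, ha, rfl⟩
    have hk' : k ∈ ((D ⊔ C0 : Subgroup G) : Set G) := hk
    rw [Subgroup.normal_mul] at hk'
    obtain ⟨b, hb, c, hc, rfl⟩ := Set.mem_mul.mp hk'
    have hca : c * a * c⁻¹ = a := by rw [← hc a ha, mul_inv_cancel_right]
    rw [map_mul, mul_inv_rev, show q1 b * q1 c * q1 a * ((q1 c)⁻¹ * (q1 b)⁻¹) =
      q1 b * (q1 (c * a * c⁻¹)) * (q1 b)⁻¹ by simp only [map_mul, map_inv, mul_assoc], hca,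
      hVab _ ⟨b, hb, rfl⟩ _ ⟨a, ha, rfl⟩, mul_inv_cancel_right]
  · intro g hg hgC
    obtain ⟨g, rfl⟩ := QuotientGroup.mk'_surjective N g
    obtain ⟨a, m, hm, hco, -, hpow, hregg⟩ := exists_exponents hM.1 g
    have hT : g ∈ pairStab hP he := (mem_pairStab hP he).mpr
      ⟨by rw [Subgroup.normalizer_eq_top]; trivial, hfix_stab g hg⟩
    have hgm : g ^ m ∈ D ⊔ C0 := by
      have h := (mem_pairStab hP he).mp (Subgroup.pow_mem _ hT m)
      exact hpel _ h.1 h.2 hpow
    refine ⟨?_, m, hm, by rw [← map_pow]; exact ⟨_, hgm, rfl⟩⟩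
    by_contra hno
    push Not at hno
    refine hgC ⟨g, mem_of_pow_mem hco (Subgroup.mem_sup_right (centralizes_of_phi hDp hregg fun y hy => ?_)) hgm, rfl⟩
    have hfx : ∀ n : ℕ, q1 g ^ n * q1 y * (q1 g ^ n)⁻¹ = q1 y := by
      intro n
      induction n with
      | zero => simp
      | succ n ih =>
        calc q1 g ^ (n + 1) * q1 y * (q1 g ^ (n + 1))⁻¹ = q1 g * (q1 g ^ n * q1 y * (q1 g ^ n)⁻¹) * (q1 g)⁻¹ := by
              rw [pow_succ']; group
          _ = q1 y := by rw [ih]; exact hno _ ⟨y, hy, rfl⟩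
    refine QuotientGroup.eq.mp (Eq.symm ?_)
    have := hfx (p ^ a)
    rw [← map_pow, ← map_inv, ← map_mul, ← map_mul] at this
    exact this

end Cfsg.Agent.Char.EqualDeg
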