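import Cfsg.Agent.Lib.Char.DecompLattice

/-!
# A union of blocks whose characters have a single degree

The residue algebra of such a union is a sum of matrix algebras over commutative local rings, so its radical is
generated by central elements.
-/

set_option autoImplicit false
set_option linter.unusedSectionVars false
set_option linter.style.haveILetI false

namespace Cfsg.Agent.Char.EqualDeg

open Cfsg Matrix IdemAlg DecompLattice
open scoped ComplexConjugate

universe u

/-- Full commutative corners without links: every element of the ideal is generated by central elements of it. -/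
theorem exists_central_decomp {A : Type*} [Ring A] {ι κ : Type*} [Fintype ι] [DecidableEq κ] (j : ι → κ) (F : κ → A)
    (a b : ι → A) {e : A} (hc : ∀ x, e * x = x * e) (hee : e * e = e) (hF : ∀ i, F i * F i = F i)
    (he : ∑ i, a i * F (j i) * b i = e)
    (hcomm : ∀ i x y, F i * x * F i * (F i * y * F i) = F i * y * F i * (F i * x * F i))
    (hcross : ∀ i i', i ≠ i' → ∀ x, F i * x * F i' = 0) (P : A → Prop) (hP0 : P 0)
    (hPadd : ∀ x y, P x → P y → P (x + y)) (hPmul : ∀ x y, P x → P (y * x) ∧ P (x * y))
    {x : A} (hx : P x) (hex : e * x = x) :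
    ∃ z c : ι × ι → A, x = ∑ q, z q * c q ∧
      ∀ q, (∀ y, z q * y = y * z q) ∧ P (z q) ∧ e * z q = z q := by
  classical
  obtain ⟨a', ha'⟩ : ∃ a' : ι → A, a' = fun i => e * a i := ⟨_, rfl⟩
  obtain ⟨b', hb'⟩ : ∃ b' : ι → A, b' = fun i => b i * e := ⟨_, rfl⟩
  have hea : ∀ i, e * a' i = a' i := fun i => by simp only [ha', ← mul_assoc, hee]
  have hbe : ∀ i, b' i * e = b' i := fun i => by simp only [hb', mul_assoc, hee]
  have he' : ∑ i, a' i * F (j i) * b' i = e := by
    have h : ∀ i, a' i * F (j i) * b' i = e * (a i * F (j i) * b i) * e := fun i => by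
      simp only [ha', hb', mul_assoc]
    rw [Finset.sum_congr rfl fun i _ => h i, ← Finset.sum_mul, ← Finset.mul_sum, he, hee, hee]
  -- partial sums over one index
  have hpart : ∀ (t : κ) (w : A), (∑ i ∈ Finset.univ.filter (fun i => j i = t), a' i * F t * b' i * (w * F t)) =
      e * (w * F t) := fun t w => by
    conv_rhs => rw [← he', Finset.sum_mul]
    rw [Finset.sum_filter]
    refine Finset.sum_congr rfl fun i _ => ?_
    by_cases h : j i = t
    · rw [if_pos h, h]
    · rw [if_neg h, mul_assoc, mul_assoc, ← mul_assoc (b' i), ← mul_assoc (F (j i)), hcross _ _ h, mul_zero]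
  obtain ⟨r, hr⟩ : ∃ r : ι × ι → A, r = fun q => F (j q.1) * (b' q.1 * x * a' q.2) * F (j q.1) := ⟨_, rfl⟩
  obtain ⟨z, hz⟩ : ∃ z : ι × ι → A, z = fun q =>
      ∑ k ∈ Finset.univ.filter (fun k => j k = j q.1), a' k * r q * b' k := ⟨_, rfl⟩
  refine ⟨z, fun q => if j q.1 = j q.2 then a' q.1 * F (j q.1) * b' q.2 else 0, ?_, fun q => ⟨?_, ?_, ?_⟩⟩
  · have hxe : x = e * x * e := by rw [hex, ← hc, hex]
    conv_lhs => rw [hxe, ← he', Finset.sum_mul, Finset.sum_mul]
    rw [Fintype.sum_prod_type]
    refine Finset.sum_congr rfl fun i _ => ?_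
    rw [Finset.mul_sum]
    refine Finset.sum_congr rfl fun l _ => ?_
    by_cases h : j i = j l
    · simp only [if_pos h]
      set t := j i with ht
      have key : ∀ k ∈ Finset.univ.filter (fun k => j k = t),
          a' k * r (i, l) * b' k * (a' i * F t * b' l) = a' k * F t * b' k * (a' i * F t) * (r (i, l) * b' l) := by
        intro k _
        have hrF : r (i, l) = r (i, l) * F t := by simp only [hr, ← ht, mul_assoc, hF]
        have hFr : r (i, l) = F t * r (i, l) := by simp only [hr, ← ht, ← mul_assoc, hF]
        have hswap : r (i, l) * (b' k * (a' i * F t)) = F t * (b' k * (a' i * F t)) * r (i, l) := by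
          rw [hrF]
          simp only [mul_assoc]
          have h2 := hcomm t (b' i * x * a' l) (b' k * a' i)
          simp only [hr, ← ht]
          simp only [mul_assoc] at h2 ⊢
          rw [h2]
          simp only [← mul_assoc, hF]
        calc a' k * r (i, l) * b' k * (a' i * F t * b' l)
            = a' k * (r (i, l) * (b' k * (a' i * F t))) * b' l := by simp only [mul_assoc]
          _ = _ := by rw [hswap]; simp only [mul_assoc]
      rw [hz]
      simp only [← ht]
      rw [Finset.sum_mul, Finset.sum_congr rfl key, ← Finset.sum_mul, hpart t (a' i), ← mul_assoc e, hea]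
      simp only [hr, ← ht, ← h]
      simp only [← mul_assoc]
      rw [mul_assoc (a' i) (F t) (F t), hF]
    · simp only [if_neg h, mul_zero]
      have h0 := hcross _ _ h (b' i * x * a' l)
      calc a' i * F (j i) * b' i * x * (a' l * F (j l) * b' l)
          = a' i * (F (j i) * (b' i * x * a' l) * F (j l)) * b' l := by simp only [mul_assoc]
        _ = 0 := by rw [h0, mul_zero, zero_mul]
  · intro y
    set t := j q.1 with ht
    have hrF : r q = r q * F t := by simp only [hr, ← ht, mul_assoc, hF]
    have hFr : r q = F t * r q := by simp only [hr, ← ht, ← mul_assoc, hF]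
    have hby : ∀ k, b' k * y = b' k * y * e := fun k => by
      conv_lhs => rw [← hbe k, mul_assoc, hc, ← mul_assoc]
    have hswap : ∀ k l, r q * (b' k * y * (a' l * F t)) = F t * (b' k * y * (a' l * F t)) * r q := fun k l => by
      have h2 := hcomm t (b' q.1 * x * a' q.2) (b' k * y * a' l)
      rw [hrF]
      simp only [hr, ← ht]
      simp only [mul_assoc] at h2 ⊢
      rw [h2]
      simp only [← mul_assoc, hF]
    rw [hz]
    simp only [← ht]
    rw [Finset.sum_mul, Finset.mul_sum]
    calc (∑ k ∈ Finset.univ.filter (fun k => j k = t), a' k * r q * b' k * y)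
        = ∑ k ∈ Finset.univ.filter (fun k => j k = t), ∑ l ∈ Finset.univ.filter (fun l => j l = t),
            a' k * F t * b' k * (y * a' l * F t) * (r q * b' l) := by
          refine Finset.sum_congr rfl fun k hk => ?_
          rw [mul_assoc (a' k * r q), hby, ← he', Finset.mul_sum, Finset.mul_sum, Finset.sum_filter]
          refine Finset.sum_congr rfl fun l _ => ?_
          by_cases hl : j l = t
          · rw [if_pos hl, hl]
            calc a' k * r q * (b' k * y * (a' l * F t * b' l))
                = a' k * (r q * (b' k * y * (a' l * F t))) * b' l := by simp only [mul_assoc]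
              _ = _ := by rw [hswap]; simp only [mul_assoc]
          · rw [if_neg hl]
            have h0 := hcross t (j l) (fun h => hl h.symm) (b' k * y * a' l)
            calc a' k * r q * (b' k * y * (a' l * F (j l) * b' l))
                = a' k * (r q * (F t * (b' k * y * a' l) * F (j l))) * b' l := by
                  conv_lhs => rw [hrF]
                  simp only [mul_assoc]
              _ = 0 := by rw [h0, mul_zero, mul_zero, zero_mul]
      _ = ∑ l ∈ Finset.univ.filter (fun l => j l = t), y * (a' l * r q * b' l) := by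
          rw [Finset.sum_comm]
          refine Finset.sum_congr rfl fun l _ => ?_
          rw [← Finset.sum_mul, hpart t (y * a' l)]
          calc e * (y * a' l * F t) * (r q * b' l) = (e * y) * a' l * (F t * r q) * b' l := by
                simp only [mul_assoc]
            _ = y * (e * a' l) * r q * b' l := by rw [hc, ← hFr]; simp only [mul_assoc]
            _ = _ := by rw [hea]; simp only [mul_assoc]
  · have hr' : P (r q) := by
      rw [hr]
      exact (hPmul _ _ ((hPmul _ (F (j q.1)) ((hPmul _ (a' q.2) ((hPmul _ (b' q.1) hx).1)).2)).1)).2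
    rw [hz]
    exact Finset.sum_induction _ P hPadd hP0 fun k _ => (hPmul _ (b' k) (hPmul _ (a' k) hr').1).2
  · rw [hz, Finset.mul_sum]
    exact Finset.sum_congr rfl fun k _ => by simp only [← mul_assoc, hea]

section End

variable {V : Type*} [AddCommGroup V] [Module ℂ V] [FiniteDimensional ℂ V]

/-- An idempotent of trace zero or one has a commutative corner. -/
theorem corner_comm {E X Y : Module.End ℂ V} (hE : IsIdempotentElem E) {n : ℕ}
    (hn : LinearMap.trace ℂ V E = n) (h1 : n ≤ 1) : E * X * E * (E * Y * E) = E * Y * E * (E * X * E) := by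
  have ht := (LinearMap.IsIdempotentElem.isProj_range _ hE).trace
  rw [hn, Nat.cast_inj] at ht
  obtain ⟨w, hw⟩ := finrank_le_one_iff.mp (ht ▸ h1)
  have key : ∀ u, ∃ c : ℂ, E u = c • (w : V) := fun u => by
    obtain ⟨c, hc⟩ := hw ⟨E u, LinearMap.mem_range_self E u⟩
    exact ⟨c, by rw [← show ((c • w : LinearMap.range E) : V) = E u from congrArg Subtype.val hc]; rfl⟩
  obtain ⟨α, hα⟩ := key (X w)
  obtain ⟨β, hβ⟩ := key (Y w)
  have hEw : E (w : V) = w := by
    obtain ⟨u, hu⟩ := w.2
    rw [← hu, ← Module.End.mul_apply, hE.eq]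
  refine LinearMap.ext fun u => ?_
  obtain ⟨c, hc⟩ := key u
  simp only [Module.End.mul_apply, hc, map_smul, hα, hβ, hEw, smul_smul]
  congr 1
  ring

end End

variable {G : Type u} [Group G] [Fintype G] {M : Ideal AlgInt} {p : ℕ}

/-- An element killed by every irreducible character against all translates is zero. -/
theorem eq_zero_of_trC {hP : M.IsPrime} {x : OA hP G}
    (h : ∀ (χ : IrrCharacter G) (g : G), trC (χ : G → ℂ) (gen hP g * x) = 0) : x = 0 := by
  classical
  refine ext_co fun g => ?_
  rw [co_zero, Pi.zero_apply]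
  have horth : ∀ y : G, ∑ χ : IrrCharacter G, co x y * (χ : G → ℂ) (g⁻¹ * y) * (χ : G → ℂ) 1 =
      co x y * if IsConj (g⁻¹ * y) 1 then ((Nat.card G : ℂ) / Nat.card {x : G // IsConj 1 x}) else 0 := by
    intro y
    rw [← second_orth (g⁻¹ * y) 1, Finset.mul_sum]
    refine Finset.sum_congr rfl fun χ _ => ?_
    rw [char_one_eq_deg (irr_isCharacter χ.2), map_natCast]
    ring
  have h0 : ∑ χ : IrrCharacter G, trC (χ : G → ℂ) (gen hP g⁻¹ * x) * (χ : G → ℂ) 1 = 0 :=
    Finset.sum_eq_zero fun χ _ => by rw [h, zero_mul]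
  simp only [trC_gen_mul, Finset.sum_mul] at h0
  rw [Finset.sum_comm] at h0
  simp only [horth] at h0
  rw [Finset.sum_eq_single g (fun y _ hy => by
      rw [if_neg (fun h => hy (inv_mul_eq_one.mp (isConj_one_left.1 h)).symm), mul_zero])
    (fun h => absurd (Finset.mem_univ _) h), inv_mul_cancel, if_pos (IsConj.refl 1)] at h0
  refine (mul_eq_zero.mp h0).resolve_right (div_ne_zero (Nat.cast_ne_zero.mpr Nat.card_pos.ne') ?_)
  haveI : Nonempty {x : G // IsConj 1 x} := ⟨⟨1, IsConj.refl 1⟩⟩
  exact Nat.cast_ne_zero.mpr Nat.card_pos.ne'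

/-- A commutative normal `p`-subgroup acts trivially in the simple components of the residue algebra. -/
theorem pi_gen_eq_one {hM : IsPModular p M} (D : Data hM G) {V : Subgroup G} [V.Normal] (hV : IsPGroup p V)
    (hab : ∀ a ∈ V, ∀ b ∈ V, a * b = b * a) {v : G} (hv : v ∈ V) : D.π (gen _ v) = 1 := by
  classical
  haveI := charP_res (pmod_prime hM) hM
  haveI := Fact.mk hM.1
  funext j
  set R : G → Matrix (Fin (D.d j)) (Fin (D.d j)) (Res (pmod_prime hM)) := fun g => D.π (gen _ g) j with hR
  have hmul : ∀ a b, R (a * b) = R a * R b := fun a b => by simp only [hR, gen_mul, map_mul, Pi.mul_apply]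
  have hone : R 1 = 1 := by simp only [hR, gen_one, map_one, Pi.one_apply]
  have hfix : ∀ s : Finset G, (∀ a ∈ s, a ∈ V) →
      ∃ w : Fin (D.d j) → Res (pmod_prime hM), w ≠ 0 ∧ ∀ a ∈ s, R a *ᵥ w = w := by
    intro s
    induction s using Finset.induction_on with
    | empty => exact fun _ => ⟨Pi.single ⟨0, D.hd j⟩ 1, by simp, by simp⟩
    | insert a s _ ih =>
      intro hs
      obtain ⟨w, hw0, hw⟩ := ih fun b hb => hs b (Finset.mem_insert_of_mem hb)
      have haV := hs a (Finset.mem_insert_self a s)
      obtain ⟨k, hk⟩ := hV ⟨a, haV⟩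
      have hk' : a ^ p ^ k = 1 := congrArg Subtype.val hk
      have hnil : (R a - 1) ^ p ^ k = 0 := by
        haveI : Nonempty (Fin (D.d j)) := ⟨⟨0, D.hd j⟩⟩
        rw [sub_pow_char_pow_of_commute (p := p) (n := k) (Commute.one_right _), one_pow]
        have : ∀ n : ℕ, R a ^ n = R (a ^ n) := fun n => by
          induction n with
          | zero => rw [pow_zero, pow_zero, hone]
          | succ n ihn => rw [pow_succ, pow_succ, ihn, hmul]
        rw [this, hk', hone, sub_self]
      have hex : ∃ n, (R a - 1) ^ n *ᵥ w = 0 := ⟨p ^ k, by rw [hnil, Matrix.zero_mulVec]⟩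
      have hn0 : Nat.find hex ≠ 0 := fun h => hw0 (by
        have := Nat.find_spec hex
        rwa [h, pow_zero, Matrix.one_mulVec] at this)
      refine ⟨(R a - 1) ^ (Nat.find hex - 1) *ᵥ w, Nat.find_min hex (Nat.sub_lt (Nat.pos_of_ne_zero hn0) one_pos),
        fun b hb => ?_⟩
      rcases Finset.mem_insert.mp hb with rfl | hb'
      · have h := Nat.find_spec hex
        rw [show Nat.find hex = 1 + (Nat.find hex - 1) by omega, pow_add, pow_one, ← Matrix.mulVec_mulVec,
          Matrix.sub_mulVec, Matrix.one_mulVec] at h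
        exact sub_eq_zero.mp h
      · have hcm : Commute (R b) (R a - 1) := by
          refine Commute.sub_right ?_ (Commute.one_right _)
          show R b * R a = R a * R b
          rw [← hmul, ← hmul, hab b (hs b hb) a haV]
        rw [Matrix.mulVec_mulVec, (hcm.pow_right _).eq, ← Matrix.mulVec_mulVec, hw b hb']
  obtain ⟨w, hw0, hw⟩ := hfix (Finset.univ.filter (· ∈ V)) fun a ha => (Finset.mem_filter.mp ha).2
  replace hw : ∀ a ∈ V, R a *ᵥ w = w := fun a ha => hw a (by simp [ha])
  have hinv : ∀ (x : OA (pmod_prime hM) G) (a : G), a ∈ V → R a *ᵥ (D.π x j *ᵥ w) = D.π x j *ᵥ w := by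
    intro x a ha
    induction x using MonoidAlgebra.induction_linear with
    | zero => simp
    | add y z hy hz => simp only [map_add, Pi.add_apply, Matrix.add_mulVec, Matrix.mulVec_add, hy, hz]
    | single g c =>
      rw [show MonoidAlgebra.single g c = c • gen (pmod_prime hM) g by simp [gen], D.smul]
      simp only [Pi.smul_apply, Matrix.smul_mulVec, Matrix.mulVec_smul]
      congr 1
      show R a *ᵥ (R g *ᵥ w) = R g *ᵥ w
      rw [Matrix.mulVec_mulVec, ← hmul, show a * g = g * (g⁻¹ * a * g) by group, hmul, ← Matrix.mulVec_mulVec,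
        hw _ (by simpa using Subgroup.Normal.conj_mem (inferInstance : V.Normal) a ha g⁻¹)]
  obtain ⟨i0, hi0⟩ := Function.ne_iff.mp hw0
  rw [Pi.zero_apply] at hi0
  show R v = (1 : ∀ j, Matrix (Fin (D.d j)) (Fin (D.d j)) (Res (pmod_prime hM))) j
  rw [Pi.one_apply]
  refine Matrix.toLin'.injective ((Pi.basisFun _ _).ext fun i => ?_)
  obtain ⟨x, hx⟩ := D.good.surj (Pi.single j (single i i0 (w i0)⁻¹))
  have h := hinv x v hv
  rw [hx, Pi.single_eq_same, single_mulVec, inv_mul_cancel₀ hi0] at h
  simp only [Matrix.toLin'_apply, Pi.basisFun_apply, Matrix.one_mulVec]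
  exact h

end Cfsg.Agent.Char.EqualDeg
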